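import Groth.Agent.NonAbLib.UnipExt.Free
import Mathlib.RingTheory.Flat.Basic
import Mathlib.LinearAlgebra.TensorProduct.RightExactness
import Mathlib.LinearAlgebra.Basis.VectorSpace

/-!
# A basis adapted to the unipotent filtration of a comodule algebra

For `Δ : H → H ⊗ H` such that every comodule quotient of `H` has an invariant vector, there is a
basis of `H` triangular for the functionals `(1 ⊗ coordinate) ∘ Δ`.
-/

set_option autoImplicit false

universe u

open TensorProduct
open scoped Classical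

noncomputable section

namespace Groth.Agent.NonAbLib.UnipExt

variable {k : Type u} [Field k] {H : Type u} [CommRing H] [Algebra k H] (Δ : H →ₗ[k] H ⊗[k] H)

/-- `v ↦ Δ v - 1 ⊗ v`. -/
def devn : H →ₗ[k] H ⊗[k] H := Δ - TensorProduct.mk k H H 1

/-- The unipotent filtration. -/
def fil : ℕ → Submodule k H
  | 0 => ⊥
  | n + 1 => LinearMap.ker (((fil n).mkQ.lTensor H).comp (devn Δ))

theorem ker_lTensor_mkQ (W : Submodule k H) :
    LinearMap.ker (W.mkQ.lTensor H) = LinearMap.range (W.subtype.lTensor H) :=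
  LinearMap.exact_iff.1 (lTensor_exact H (LinearMap.exact_subtype_mkQ W) W.mkQ_surjective)

theorem mem_fil_succ {n : ℕ} {v : H} :
    v ∈ fil Δ (n + 1) ↔ devn Δ v ∈ LinearMap.range ((fil Δ n).subtype.lTensor H) := by
  rw [← ker_lTensor_mkQ]
  exact Iff.rfl

theorem range_lTensor_mono {W W' : Submodule k H} (h : W ≤ W') :
    LinearMap.range (W.subtype.lTensor H) ≤ LinearMap.range (W'.subtype.lTensor H) := by
  rw [← Submodule.subtype_comp_inclusion W W' h, LinearMap.lTensor_comp]
  exact LinearMap.range_comp_le_range _ _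

theorem fil_le_succ : ∀ n, fil Δ n ≤ fil Δ (n + 1)
  | 0 => bot_le
  | n + 1 => fun v hv => (mem_fil_succ Δ).2 (range_lTensor_mono (fil_le_succ n) ((mem_fil_succ Δ).1 hv))

theorem fil_monotone : Monotone (fil Δ) := monotone_nat_of_le_succ (fil_le_succ Δ)

/-- The union of the filtration. -/
def filTop : Submodule k H := ⨆ n, fil Δ n

theorem mem_filTop {v : H} : v ∈ filTop Δ ↔ ∃ n, v ∈ fil Δ n :=
  Submodule.mem_iSup_of_directed _ (fil_monotone Δ).directed_le

theorem exists_mem_range_lTensor {z : H ⊗[k] H} (hz : z ∈ LinearMap.range ((filTop Δ).subtype.lTensor H)) :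
    ∃ n, z ∈ LinearMap.range ((fil Δ n).subtype.lTensor H) := by
  obtain ⟨w, rfl⟩ := hz
  induction w using TensorProduct.induction_on with
  | zero => exact ⟨0, by rw [map_zero]; exact zero_mem _⟩
  | tmul a v =>
    obtain ⟨n, hn⟩ := (mem_filTop Δ).1 v.2
    exact ⟨n, a ⊗ₜ ⟨v.1, hn⟩, by simp⟩
  | add x y hx hy =>
    obtain ⟨n, hn⟩ := hx
    obtain ⟨m, hm⟩ := hy
    exact ⟨max n m, by
      rw [map_add]
      exact add_mem (range_lTensor_mono (fil_monotone Δ (le_max_left n m)) hn)
        (range_lTensor_mono (fil_monotone Δ (le_max_right n m)) hm)⟩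

theorem mem_filTop_of_devn {v : H} (h : devn Δ v ∈ LinearMap.range ((filTop Δ).subtype.lTensor H)) :
    v ∈ filTop Δ := by
  obtain ⟨n, hn⟩ := exists_mem_range_lTensor Δ h
  exact (mem_filTop Δ).2 ⟨n + 1, (mem_fil_succ Δ).2 hn⟩

theorem filTop_le_comap : filTop Δ ≤ LinearMap.ker (((filTop Δ).mkQ.lTensor H).comp Δ) := by
  intro v hv
  obtain ⟨n, hn⟩ := (mem_filTop Δ).1 hv
  obtain ⟨m, hm⟩ : ∃ m, n = m + 1 ∨ n = 0 := ⟨n - 1, by omega⟩
  rcases hm with rfl | rfl
  · have h1 := range_lTensor_mono (show fil Δ m ≤ filTop Δ from le_iSup (fil Δ) m) ((mem_fil_succ Δ).1 hn)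
    rw [← ker_lTensor_mkQ, LinearMap.mem_ker, devn, LinearMap.sub_apply, map_sub, sub_eq_zero] at h1
    rw [LinearMap.mem_ker, LinearMap.comp_apply]
    refine h1.trans ?_
    rw [TensorProduct.mk_apply, LinearMap.lTensor_tmul,
      show (filTop Δ).mkQ v = 0 from (Submodule.Quotient.mk_eq_zero _).2 hv, TensorProduct.tmul_zero]
  · rw [show v = 0 from (Submodule.mem_bot k).1 hn]
    exact zero_mem _

/-- The coaction on the quotient by the filtration. -/
def rho : (H ⧸ filTop Δ) →ₗ[k] H ⊗[k] (H ⧸ filTop Δ) :=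
  (filTop Δ).liftQ (((filTop Δ).mkQ.lTensor H).comp Δ) (filTop_le_comap Δ)

theorem rho_mk (v : H) : rho Δ ((filTop Δ).mkQ v) = (filTop Δ).mkQ.lTensor H (Δ v) := rfl

/-- The quotient has no invariant vector. -/
theorem rho_eq_tmul {m : H ⧸ filTop Δ} (h : rho Δ m = (1 : H) ⊗ₜ[k] m) : m = 0 := by
  obtain ⟨v, rfl⟩ := (filTop Δ).mkQ_surjective m
  refine (Submodule.Quotient.mk_eq_zero _).2 (mem_filTop_of_devn Δ ?_)
  rw [← ker_lTensor_mkQ, LinearMap.mem_ker, devn, LinearMap.sub_apply, map_sub, ← rho_mk, h]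
  simp

/-- The coordinate functional in the second factor. -/
def coordR {κ : Type u} (b : Module.Basis κ k H) (β : κ) : H →ₗ[k] H :=
  (TensorProduct.rid k H).toLinearMap ∘ₗ (b.coord β).lTensor H ∘ₗ Δ

/-- An exhaustive filtration gives a triangular basis. -/
theorem exists_triangular [Nontrivial H] (htop : filTop Δ = ⊤) :
    ∃ (κ : Type u) (_ : Nonempty κ) (b : Module.Basis κ k H) (deg : κ → ℕ),
      Triangular b deg (coordR Δ b) := by
  let T : ∀ n : ℕ, {s : Set H // LinearIndepOn k id s ∧ s ⊆ (fil Δ n : Set H) ∧ fil Δ n ≤ Submodule.span k s} :=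
    fun n => Nat.rec ⟨∅, linearIndepOn_empty k id, Set.empty_subset _, bot_le⟩
      (fun n s => ⟨s.2.1.extend (s.2.2.1.trans (fil_le_succ Δ n)),
        s.2.1.linearIndepOn_extend _, s.2.1.extend_subset _, fun v hv => by
          rw [LinearIndepOn.span_extend_eq_span]
          exact Submodule.subset_span hv⟩) n
  have hT0 : (T 0).1 = ∅ := rfl
  have hstep : ∀ n, (T n).1 ⊆ (T (n + 1)).1 := fun n =>
    (T n).2.1.subset_extend ((T n).2.2.1.trans (fil_le_succ Δ n))
  have hmono : Monotone fun n => (T n).1 := monotone_nat_of_le_succ hstep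
  let s : Set H := ⋃ n, (T n).1
  have hli : LinearIndepOn k id s := linearIndepOn_iUnion_of_directed hmono.directed_le fun n => (T n).2.1
  have hsp : ⊤ ≤ Submodule.span k (Set.range ((↑) : s → H)) := by
    rw [Subtype.range_coe, ← htop]
    exact iSup_le fun n => (T n).2.2.2.trans (Submodule.span_mono (Set.subset_iUnion (fun n => (T n).1) n))
  let b : Module.Basis s k H := Module.Basis.mk hli hsp
  have hb : ∀ x : s, b x = x.1 := fun x => Module.Basis.mk_apply _ _ x
  have hmem : ∀ x : s, ∃ n, x.1 ∈ (T (n + 1)).1 := fun x => by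
    obtain ⟨n, hn⟩ := Set.mem_iUnion.1 x.2
    exact ⟨n, hstep n hn⟩
  let deg : s → ℕ := fun x => Nat.find (hmem x)
  have hnot : ∀ (x : s) n, n ≤ deg x → x.1 ∉ (T n).1 := by
    intro x n hn hx
    rcases n with _ | n
    · rw [hT0] at hx; exact hx
    · exact Nat.find_min (hmem x) (show n < deg x by omega) hx
  refine ⟨s, ?_, b, deg, fun α β hle => ?_⟩
  · exact b.index_nonempty
  have hker : ∀ w ∈ fil Δ (deg α), b.coord β w = 0 := fun w hw => by
    have hw' : w ∈ Submodule.span k (b '' {x | x.1 ∈ (T (deg α)).1}) := by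
      refine Submodule.span_mono (fun y hy => ?_) ((T (deg α)).2.2.2 hw)
      exact ⟨⟨y, Set.mem_iUnion.2 ⟨_, hy⟩⟩, hy, hb _⟩
    rw [b.mem_span_image] at hw'
    rw [Module.Basis.coord_apply]
    exact Finsupp.notMem_support_iff.1 fun h => hnot β (deg α) hle (hw' h)
  have hz : b α ∈ fil Δ (deg α + 1) := by
    rw [hb]
    exact (T (deg α + 1)).2.2.1 (Nat.find_spec (hmem α))
  have hzero : (TensorProduct.rid k H) ((b.coord β).lTensor H (devn Δ (b α))) = 0 := by
    obtain ⟨w, hw⟩ := (mem_fil_succ Δ).1 hz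
    rw [← hw, ← LinearMap.lTensor_comp_apply,
      show b.coord β ∘ₗ (fil Δ (deg α)).subtype = 0 from LinearMap.ext fun x => hker x.1 x.2,
      LinearMap.lTensor_zero, LinearMap.zero_apply, map_zero]
  have hq : coordR Δ b β (b α) = b.coord β (b α) • (1 : H) := by
    rw [← sub_eq_zero]
    simpa [devn, coordR] using hzero
  rw [hq, Module.Basis.coord_apply, b.repr_self]
  constructor
  · rintro rfl; rw [Finsupp.single_eq_same, one_smul]
  · intro h; rw [Finsupp.single_eq_of_ne (Ne.symm h), zero_smul]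

end Groth.Agent.NonAbLib.UnipExt
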