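import Groth.Agent.NonAbLib.Extend.Away
import Groth.Agent.LC.DepthLoc
import Groth.Agent.Alg6.AssDepth

/-!
# Čech cohomology below the depth

For a finite family `g` spanning ideals of depth at least three, `A` is `GLoc g` and every Čech
one-cocycle of `A` for the basic opens of the `g i` is a coboundary.
-/

set_option autoImplicit false

universe u

open scoped Pointwise

noncomputable section

namespace Groth.Agent.NonAbLib.UnipExt

open Extend

variable {A : Type u} [CommRing A] {ι : Type u}

/-- A weakly regular triple in the ideal generated by each power of the family. -/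
def Deep (g : ι → A) : Prop :=
  ∀ N : ℕ, ∃ x ∈ Ideal.span (Set.range fun i => g i ^ N), ∃ y ∈ Ideal.span (Set.range fun i => g i ^ N),
    ∃ z ∈ Ideal.span (Set.range fun i => g i ^ N),
      (∀ a, x * a = 0 → a = 0) ∧ (∀ a, x ∣ y * a → x ∣ a) ∧
        ∀ a, z * a ∈ Ideal.span {x, y} → a ∈ Ideal.span {x, y}

variable [Finite ι] {g : ι → A}

theorem Deep.gloc (h : Deep g) : GLoc g A := by
  classical
  cases nonempty_fintype ι
  constructor
  · intro m hm
    choose n hn using hm
    let N := Finset.univ.sup n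
    obtain ⟨x, hx, -, -, -, -, hreg, -⟩ := h N
    refine hreg m ?_
    have hle : ∀ i, n i ≤ N := fun i => Finset.le_sup (Finset.mem_univ i)
    obtain ⟨r, rfl⟩ := Ideal.mem_span_range_iff_exists_fun.1 hx
    rw [Finset.sum_mul]
    refine Finset.sum_eq_zero fun i _ => ?_
    have h0 : g i ^ n i * m = 0 := hn i
    rw [← Nat.sub_add_cancel (hle i), pow_add]
    linear_combination (r i * g i ^ (N - n i)) * h0
  · intro N m hm
    obtain ⟨x, hx, y, hy, -, -, hreg, hdvd, -⟩ := h N
    obtain ⟨r, hr⟩ := Ideal.mem_span_range_iff_exists_fun.1 hx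
    obtain ⟨r', hr'⟩ := Ideal.mem_span_range_iff_exists_fun.1 hy
    let s := ∑ l, r l * m l
    have hs : ∀ i, g i ^ N * s = x * m i := fun i => by
      rw [← hr, Finset.mul_sum, Finset.sum_mul]
      refine Finset.sum_congr rfl fun l _ => ?_
      have h0 : g l ^ N * m i = g i ^ N * m l := hm i l
      linear_combination (-r l) * h0
    obtain ⟨a, ha⟩ := hdvd s ⟨∑ l, r' l * m l, by
      rw [← hr', Finset.sum_mul, Finset.mul_sum]
      exact Finset.sum_congr rfl fun l _ => by rw [mul_assoc, hs l]; ring⟩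
    refine ⟨a, fun i => ?_⟩
    have h1 := hs i
    rw [ha] at h1
    exact sub_eq_zero.1 (hreg _ (by rw [mul_sub, smul_eq_mul, sub_eq_zero]; linear_combination h1))

/-- One-cocycles are coboundaries. -/
theorem Deep.exists_coboundary (h : Deep g) (N : ℕ) (a : ι → ι → A)
    (ha : ∀ i j l, g l ^ N * a i j + g i ^ N * a j l = g j ^ N * a i l) :
    ∃ e : ι → A, ∀ i j, a i j = g j ^ N * e i - g i ^ N * e j := by
  classical
  cases nonempty_fintype ι
  obtain ⟨x, hx, y, hy, z, hz, hreg, hdvd, htor⟩ := h N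
  obtain ⟨r, hr⟩ := Ideal.mem_span_range_iff_exists_fun.1 hx
  obtain ⟨r', hr'⟩ := Ideal.mem_span_range_iff_exists_fun.1 hy
  obtain ⟨r'', hr''⟩ := Ideal.mem_span_range_iff_exists_fun.1 hz
  let e : ι → A := fun i => ∑ l, r l * a i l
  have he : ∀ i j, x * a i j = g j ^ N * e i - g i ^ N * e j := fun i j => by
    simp only [e, ← hr, Finset.sum_mul, Finset.mul_sum, ← Finset.sum_sub_distrib]
    exact Finset.sum_congr rfl fun l _ => by linear_combination (r l) * ha i j l
  let s := ∑ l, r' l * e l
  have hs : ∀ i, g i ^ N * s = y * e i - x * ∑ l, r' l * a i l := fun i => by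
    simp only [s, ← hr', Finset.sum_mul, Finset.mul_sum, ← Finset.sum_sub_distrib]
    exact Finset.sum_congr rfl fun l _ => by linear_combination (r' l) * he i l
  have hsI : s ∈ Ideal.span {x, y} := htor s (by
    rw [← hr'', Finset.sum_mul]
    refine Ideal.sum_mem _ fun i _ => ?_
    rw [mul_assoc, hs]
    exact Ideal.mul_mem_left _ _ (sub_mem (Ideal.mul_mem_right _ _ (Ideal.subset_span (by simp)))
      (Ideal.mul_mem_right _ _ (Ideal.subset_span (by simp)))))
  obtain ⟨u, b, hub⟩ := Ideal.mem_span_pair.1 hsI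
  have hb : ∀ i, x ∣ e i - g i ^ N * b := fun i => hdvd _ ⟨g i ^ N * u + ∑ l, r' l * a i l, by
    have h1 := hs i
    rw [← hub] at h1
    linear_combination -h1⟩
  choose f hf using hb
  refine ⟨f, fun i j => sub_eq_zero.1 (hreg _ ?_)⟩
  linear_combination he i j + g j ^ N * hf i - g i ^ N * hf j

omit [Finite ι] in
/-- Depth at least three along the zero set gives regular triples. -/
theorem deep_of_depth [IsNoetherianRing A] (g : ι → A)
    (hd : ∀ p : PrimeSpectrum A, (∀ i, g i ∈ p.asIdeal) →
      (3 : ℕ∞) ≤ LocCoh.depth (Localization.AtPrime p.asIdeal) (Localization.AtPrime p.asIdeal)) : Deep g := by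
  intro N
  let I : Ideal A := Ideal.span (Set.range fun i => g i ^ N)
  by_cases hI : I = ⊤
  · have h1 : (1 : A) ∈ I := hI ▸ Submodule.mem_top
    exact ⟨1, h1, 1, h1, 1, h1, fun a ha => by simpa using ha, fun a _ => one_dvd a,
      fun a ha => by simpa using ha⟩
  have hne : I • (⊤ : Submodule A A) ≠ ⊤ := by simpa using hI
  have hdepth : (3 : ℕ∞) ≤ LocCoh.idealDepth I A := by
    rw [Groth.Agent.LC.idealDepth_eq_iInf_depth]
    refine le_iInf₂ fun p hp => ?_
    refine (hd p fun i => ?_).trans (le_of_eq ?_)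
    · exact p.isPrime.mem_of_pow_mem N (hp (Ideal.subset_span ⟨i, rfl⟩))
    · rfl
  obtain ⟨rs, hrs, hmem, hlen⟩ := Alg6.exists_length_ge_of_le_idealDepth hne hdepth
  match rs, hlen, hmem, hrs with
  | x :: y :: z :: t, _, hmem, hrs =>
    rw [RingTheory.Sequence.isWeaklyRegular_cons_iff, RingTheory.Sequence.isWeaklyRegular_cons_iff,
      RingTheory.Sequence.isWeaklyRegular_cons_iff] at hrs
    obtain ⟨h1, h2, h3, -⟩ := hrs
    have k1 : ∀ w : A, Submodule.Quotient.mk (p := x • (⊤ : Submodule A A)) w = 0 ↔ x ∣ w := fun w => by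
      rw [Submodule.Quotient.mk_eq_zero, Submodule.mem_smul_pointwise_iff_exists]
      exact ⟨fun ⟨c, _, hc⟩ => ⟨c, hc.symm⟩, fun ⟨c, hc⟩ => ⟨c, Submodule.mem_top, hc.symm⟩⟩
    have k2 : ∀ w : A, Submodule.Quotient.mk (p := y • (⊤ : Submodule A (QuotSMulTop x A)))
        (Submodule.Quotient.mk w) = 0 ↔ w ∈ Ideal.span {x, y} := fun w => by
      rw [Submodule.Quotient.mk_eq_zero, Submodule.mem_smul_pointwise_iff_exists, Ideal.mem_span_pair]
      constructor
      · rintro ⟨c, -, hc⟩
        obtain ⟨c, rfl⟩ := Submodule.Quotient.mk_surjective _ c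
        rw [← Submodule.Quotient.mk_smul, eq_comm, ← sub_eq_zero, ← Submodule.Quotient.mk_sub, k1] at hc
        obtain ⟨d, hd⟩ := hc
        exact ⟨d, c, by rw [smul_eq_mul] at hd; linear_combination -hd⟩
      · rintro ⟨c, d, rfl⟩
        refine ⟨Submodule.Quotient.mk d, Submodule.mem_top, ?_⟩
        rw [← Submodule.Quotient.mk_smul, eq_comm, ← sub_eq_zero, ← Submodule.Quotient.mk_sub, k1]
        exact ⟨c, by rw [smul_eq_mul]; ring⟩
    refine ⟨x, hmem x (by simp), y, hmem y (by simp), z, hmem z (by simp), fun a ha => ?_, fun a ha => ?_,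
      fun a ha => ?_⟩
    · exact h1 (show x • a = x • 0 by rw [smul_zero]; exact ha)
    · exact (k1 a).1 (h2 (show y • _ = y • (0 : QuotSMulTop x A) by
        rw [smul_zero, ← Submodule.Quotient.mk_smul]; exact (k1 _).2 ha))
    · exact (k2 a).1 (h3 (show z • _ = z • (0 : QuotSMulTop y (QuotSMulTop x A)) by
        rw [smul_zero, ← Submodule.Quotient.mk_smul, ← Submodule.Quotient.mk_smul]; exact (k2 _).2 ha))
  | [], hlen, _, _ => exact absurd hlen (by simp)
  | [_], hlen, _, _ => exact absurd hlen (by simp)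
  | [_, _], hlen, _, _ => exact absurd hlen (by simp)

end Groth.Agent.NonAbLib.UnipExt
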