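import Groth.Agent.Obs28.Points
import Groth.Agent.GrpSchLib.Kunneth

/-!
# The comultiplication on the functions of an affine group over a field
-/

set_option autoImplicit false
set_option linter.style.haveILetI false

universe u

open CategoryTheory MonoidalCategory CartesianMonoidalCategory MonObj GrpObj AlgebraicGeometry
open scoped TensorProduct

noncomputable section

namespace Groth.Agent.NonAbLib.UnipExt

open GrpSchLib.Kunneth Obs28

variable {k : Type u} [Field k]

theorem qcSep_affine (X : Over (Spec (CommRingCat.of k))) [IsAffine X.left] :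
    QuasiCompact X.hom ∧ IsSeparated X.hom :=
  ⟨inferInstance, inferInstance⟩

variable (X Y : Over (Spec (CommRingCat.of k))) [QuasiCompact X.hom] [IsSeparated X.hom] [QuasiCompact Y.hom]
  [IsSeparated Y.hom]

/-- Künneth as an equivalence. -/
def prodEquiv : Fn X ⊗[k] Fn Y ≃ₐ[k] Fn (X ⊗ Y) := AlgEquiv.ofBijective (toProd X Y) (toProd_bijective X Y)

theorem prodEquiv_apply (z : Fn X ⊗[k] Fn Y) : prodEquiv X Y z = toProd X Y z := rfl

omit [QuasiCompact X.hom] [IsSeparated X.hom] [QuasiCompact Y.hom] [IsSeparated Y.hom] in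
theorem toProd_tmul (a : Fn X) (c : Fn Y) :
    toProd X Y (a ⊗ₜ[k] c) = ev (fst X Y) a * ev (snd X Y) c := Algebra.TensorProduct.lift_tmul _ _ _ _ _

variable {X Y}

/-- The coaction of a morphism into `X`. -/
def coactOf {Z : Over (Spec (CommRingCat.of k))} (r : X ⊗ Y ⟶ Z) : Fn Z →ₐ[k] Fn X ⊗[k] Fn Y :=
  (prodEquiv X Y).symm.toAlgHom.comp (ev r)

theorem toProd_coactOf {Z : Over (Spec (CommRingCat.of k))} (r : X ⊗ Y ⟶ Z) (v : Fn Z) :
    toProd X Y (coactOf r v) = ev r v := by
  rw [← prodEquiv_apply]
  exact (prodEquiv X Y).apply_symm_apply _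

theorem pfn_lift {B : Type u} [CommRing B] [Algebra k B] (a : VecGrp.pt k B ⟶ X) (c : VecGrp.pt k B ⟶ Y)
    (z : Fn X ⊗[k] Fn Y) :
    pfn (lift a c) (toProd X Y z) = Algebra.TensorProduct.productMap (pfn a) (pfn c) z := by
  induction z using TensorProduct.induction_on with
  | zero => simp
  | tmul p q =>
    rw [toProd_tmul, map_mul, ← pfn_comp, ← pfn_comp, lift_fst, lift_snd,
      Algebra.TensorProduct.productMap_apply_tmul]
  | add s t hs ht => simp only [map_add, hs, ht]

theorem pfn_coactOf {Z : Over (Spec (CommRingCat.of k))} (r : X ⊗ Y ⟶ Z) {B : Type u} [CommRing B] [Algebra k B]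
    (a : VecGrp.pt k B ⟶ X) (c : VecGrp.pt k B ⟶ Y) (v : Fn Z) :
    pfn (lift a c ≫ r) v = Algebra.TensorProduct.productMap (pfn a) (pfn c) (coactOf r v) := by
  rw [← pfn_lift, toProd_coactOf, pfn_comp]

section Group

variable (G : Over (Spec (CommRingCat.of k))) [GrpObj G] [IsAffine G.left]

/-- The comultiplication. -/
def comul : Fn G →ₐ[k] Fn G ⊗[k] Fn G := coactOf (μ[G] : G ⊗ G ⟶ G)

variable {G}

theorem pfn_mul {B : Type u} [CommRing B] [Algebra k B] (a c : VecGrp.pt k B ⟶ G) (v : Fn G) :
    pfn (a * c) v = Algebra.TensorProduct.productMap (pfn a) (pfn c) (comul G v) :=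
  pfn_coactOf (μ[G] : G ⊗ G ⟶ G) a c v

variable (G) in
/-- The counit. -/
def counit : Fn G →ₐ[k] k := pfn (1 : VecGrp.pt k k ⟶ G)

theorem counit_left (v : Fn G) :
    Algebra.TensorProduct.productMap ((Algebra.ofId k (Fn G)).comp (counit G)) (AlgHom.id k (Fn G)) (comul G v) = v := by
  have h1 : pfn (1 : VecGrp.pt k (Fn G) ⟶ G) = (Algebra.ofId k (Fn G)).comp (counit G) := by
    rw [counit, ← pfn_ptMap, MonObj.comp_one]
  rw [← h1, ← pfn_univ G, ← pfn_mul, _root_.one_mul]
  exact AlgHom.congr_fun (pfn_univ G) v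

theorem comul_injective : Function.Injective (comul G) := fun v w h => by
  rw [← counit_left v, ← counit_left w, h]

/-- Coassociativity. -/
theorem comul_coassoc (v : Fn G) :
    Algebra.TensorProduct.map (AlgHom.id k (Fn G)) (comul G) (comul G v) =
      Algebra.TensorProduct.assoc k k k (Fn G) (Fn G) (Fn G)
        (Algebra.TensorProduct.map (comul G) (AlgHom.id k (Fn G)) (comul G v)) := by
  let H := Fn G
  let i₁ : H →ₐ[k] H ⊗[k] (H ⊗[k] H) := Algebra.TensorProduct.includeLeft
  let i₂ : H →ₐ[k] H ⊗[k] (H ⊗[k] H) :=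
    Algebra.TensorProduct.includeRight.comp Algebra.TensorProduct.includeLeft
  let i₃ : H →ₐ[k] H ⊗[k] (H ⊗[k] H) :=
    Algebra.TensorProduct.includeRight.comp Algebra.TensorProduct.includeRight
  let p (i : H →ₐ[k] H ⊗[k] (H ⊗[k] H)) : VecGrp.pt k (H ⊗[k] (H ⊗[k] H)) ⟶ G := VecGrp.ptMap i ≫ univ G
  have hp : ∀ i, pfn (p i) = i := fun i => by rw [pfn_ptMap, pfn_univ, AlgHom.comp_id]
  have h1 : pfn (p i₁ * (p i₂ * p i₃)) v =
      Algebra.TensorProduct.map (AlgHom.id k H) (comul G) (comul G v) := by
    rw [pfn_mul, hp]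
    generalize comul G v = z
    induction z using TensorProduct.induction_on with
    | zero => simp
    | add s t hs ht => simp only [map_add, hs, ht]
    | tmul a c =>
      rw [Algebra.TensorProduct.productMap_apply_tmul, Algebra.TensorProduct.map_tmul, pfn_mul, hp, hp]
      generalize comul G c = w
      induction w using TensorProduct.induction_on with
      | zero => simp
      | add s t hs ht => rw [map_add, mul_add, hs, ht, TensorProduct.tmul_add]
      | tmul x y => simp [i₁, i₂, i₃]
  have h2 : pfn ((p i₁ * p i₂) * p i₃) v =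
      Algebra.TensorProduct.assoc k k k H H H
        (Algebra.TensorProduct.map (comul G) (AlgHom.id k H) (comul G v)) := by
    rw [pfn_mul, hp]
    generalize comul G v = z
    induction z using TensorProduct.induction_on with
    | zero => simp
    | add s t hs ht => simp only [map_add, hs, ht]
    | tmul a c =>
      rw [Algebra.TensorProduct.productMap_apply_tmul, Algebra.TensorProduct.map_tmul, pfn_mul, hp, hp]
      generalize comul G a = w
      induction w using TensorProduct.induction_on with
      | zero => simp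
      | add s t hs ht => rw [map_add, add_mul, hs, ht, TensorProduct.add_tmul, map_add]
      | tmul x y => simp [i₁, i₂, i₃]
  rw [← h1, ← h2, _root_.mul_assoc]

end Group

end Groth.Agent.NonAbLib.UnipExt
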