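import Groth.Agent.NonAbLib.UnipExt.Right
import Groth.Agent.NonAbLib.UnipExt.Delta
import Groth.Agent.NonAbLib.UnipExt.Adapted
import Groth.Agent.NonAbLib.Extend.SecAlg
import Mathlib.AlgebraicGeometry.Morphisms.Flat

/-!
# Global functions of a right torsor over an affine chart

If a right torsor lives over opens `D(g i)` of an affine base, and is there affine, flat and
surjective, then its functions are faithfully flat over the base as soon as one-cocycles for the
`g i` are coboundaries and the group has a triangular basis.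
-/

set_option autoImplicit false
set_option linter.style.haveILetI false

universe u

open CategoryTheory CategoryTheory.Limits MonoidalCategory CartesianMonoidalCategory MonObj GrpObj AlgebraicGeometry
open TopologicalSpace
open scoped TensorProduct Classical

noncomputable section

namespace Groth.Agent.NonAbLib.UnipExt

open GrpSchLib.Kunneth Obs28 Extend

variable {k : Type u} [Field k]

section Natural

variable {X X' Y Y' Z Z' : Over (Spec (CommRingCat.of k))}
  [QuasiCompact X.hom] [IsSeparated X.hom] [QuasiCompact Y.hom] [IsSeparated Y.hom]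

omit [QuasiCompact X.hom] [IsSeparated X.hom] [QuasiCompact Y.hom] [IsSeparated Y.hom] in
theorem toProd_map (a : X' ⟶ X) (c : Y' ⟶ Y) (z : Fn X ⊗[k] Fn Y) :
    toProd X' Y' (Algebra.TensorProduct.map (ev a) (ev c) z) = ev (a ⊗ₘ c) (toProd X Y z) := by
  induction z using TensorProduct.induction_on with
  | zero => simp
  | tmul p q =>
    rw [Algebra.TensorProduct.map_tmul, toProd_tmul, toProd_tmul, map_mul, ev_ev, ev_ev, ev_ev, ev_ev,
      tensorHom_fst, tensorHom_snd]
  | add s t hs ht => simp only [map_add, hs, ht]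

variable [QuasiCompact X'.hom] [IsSeparated X'.hom]

theorem coactOf_natural {r : X ⊗ Y ⟶ Z} {r' : X' ⊗ Y ⟶ Z'} (u : X' ⟶ X) (v : Z' ⟶ Z)
    (h : r' ≫ v = (u ▷ Y) ≫ r) (x : Fn Z) :
    coactOf r' (ev v x) = Algebra.TensorProduct.map (ev u) (AlgHom.id k (Fn Y)) (coactOf r x) := by
  have hid : ev (𝟙 Y) = AlgHom.id k (Fn Y) := AlgHom.ext ev_id
  refine (toProd_bijective X' Y).1 ?_
  rw [toProd_coactOf, ev_ev, h, ← hid, toProd_map, toProd_coactOf, ev_ev, tensorHom_id]

omit [QuasiCompact X'.hom] [IsSeparated X'.hom] [QuasiCompact X.hom] [IsSeparated X.hom] in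
theorem cs_map {κ : Type u} {C : Type u} [CommRing C] [Algebra k C] {B : Type u} [CommRing B] [Algebra k B]
    (b : Module.Basis κ k C) {B' : Type u} [CommRing B'] [Algebra k B'] (f : B →ₐ[k] B') (z : B ⊗[k] C) (idx : κ) :
    cs b B' (Algebra.TensorProduct.map f (AlgHom.id k C) z) idx = f (cs b B z idx) := by
  induction z using TensorProduct.induction_on with
  | zero => simp
  | tmul p q => rw [Algebra.TensorProduct.map_tmul, cs_tmul, cs_tmul, map_smul]; rfl
  | add s t hs ht => simp only [map_add, Finsupp.add_apply, hs, ht]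

end Natural

variable {G : Over (Spec (CommRingCat.of k))} [GrpObj G] {S : Scheme.{u}} {σ : S ⟶ Spec (CommRingCat.of k)}
  (R : RightTorsor G S σ)

/-- The functions on the base. -/
def Bas (_R : RightTorsor G S σ) : Type u := Γ(S, ⊤)

instance : CommRing (Bas R) := inferInstanceAs (CommRing Γ(S, ⊤))

instance : Algebra k (Bas R) := ((Scheme.ΓSpecIso (CommRingCat.of k)).inv ≫ σ.appTop).hom.toAlgebra

instance instAlgFn : Algebra (Bas R) (Fn R.P) := R.q.appTop.hom.toAlgebra

instance : IsScalarTower k (Bas R) (Fn R.P) := IsScalarTower.of_algebraMap_eq fun c => by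
  show R.P.hom.appTop _ = R.q.appTop (σ.appTop _)
  rw [← CommRingCat.comp_apply σ.appTop, ← Scheme.Hom.comp_appTop, R.hq]

variable [IsAffine G.left] [QuasiCompact R.P.hom] [IsSeparated R.P.hom]

theorem coactOf_algebraMap (a : Bas R) :
    coactOf R.r (algebraMap (Bas R) (Fn R.P) a) = algebraMap (Bas R) (Fn R.P) a ⊗ₜ[k] (1 : Fn G) := by
  refine (toProd_bijective R.P G).1 ?_
  rw [toProd_coactOf, toProd_tmul, map_one, _root_.mul_one]
  show (R.r.left.appTop (R.q.appTop a)) = (fst R.P G).left.appTop (R.q.appTop a)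
  rw [← CommRingCat.comp_apply R.q.appTop, ← Scheme.Hom.comp_appTop, R.hr, Scheme.Hom.comp_appTop]
  rfl

/-- The coaction. -/
def coact : Fn R.P →ₐ[Bas R] Fn R.P ⊗[k] Fn G :=
  { (coactOf R.r).toRingHom with commutes' := coactOf_algebraMap R }

theorem coact_apply (x : Fn R.P) : coact R x = coactOf R.r x := rfl

theorem coact_injective : Function.Injective (coact R) := fun x y h => by
  have e : ∀ z : Fn R.P, ev (lift (𝟙 R.P) (toUnit R.P ≫ η[G])) (toProd R.P G (coactOf R.r z)) = z := fun z => by
    rw [toProd_coactOf, ev_ev, R.one, ev_id]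
  rw [← e x, ← e y, ← coact_apply, h, coact_apply]

theorem coact_coassoc (x : Fn R.P) :
    Algebra.TensorProduct.assoc k k k (Fn R.P) (Fn G) (Fn G)
        (Algebra.TensorProduct.map (coactOf R.r) (AlgHom.id k (Fn G)) (coactOf R.r x)) =
      Algebra.TensorProduct.map (AlgHom.id k (Fn R.P)) (comul G) (coactOf R.r x) := by
  haveI : QuasiCompact (R.P ⊗ G).hom := inferInstanceAs (QuasiCompact (pullback.fst R.P.hom G.hom ≫ R.P.hom))
  haveI : IsSeparated (R.P ⊗ G).hom := inferInstanceAs (IsSeparated (pullback.fst R.P.hom G.hom ≫ R.P.hom))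
  haveI : QuasiCompact (G ⊗ G).hom := inferInstanceAs (QuasiCompact (pullback.fst G.hom G.hom ≫ G.hom))
  haveI : IsSeparated (G ⊗ G).hom := inferInstanceAs (IsSeparated (pullback.fst G.hom G.hom ≫ G.hom))
  have hidG : ev (𝟙 G) = AlgHom.id k (Fn G) := AlgHom.ext ev_id
  have hidP : ev (𝟙 R.P) = AlgHom.id k (Fn R.P) := AlgHom.ext ev_id
  let t : (Fn R.P ⊗[k] Fn G) ⊗[k] Fn G →ₐ[k] Fn ((R.P ⊗ G) ⊗ G) :=
    (toProd (R.P ⊗ G) G).comp (Algebra.TensorProduct.map (toProd R.P G) (AlgHom.id k (Fn G)))
  have ht : Function.Injective t := (toProd_bijective (R.P ⊗ G) G).1.comp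
    (Algebra.TensorProduct.congr (prodEquiv R.P G) (AlgEquiv.refl (R := k) (A₁ := Fn G))).injective
  let t' : Fn R.P ⊗[k] (Fn G ⊗[k] Fn G) →ₐ[k] Fn (R.P ⊗ G ⊗ G) :=
    (toProd R.P (G ⊗ G)).comp (Algebra.TensorProduct.map (AlgHom.id k (Fn R.P)) (toProd G G))
  have htt : ∀ z, t ((Algebra.TensorProduct.assoc k k k (Fn R.P) (Fn G) (Fn G)).symm z) =
      ev (α_ R.P G G).hom (t' z) := fun z => by
    induction z using TensorProduct.induction_on with
    | zero => simp
    | add s w hs hw => simp only [map_add, hs, hw]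
    | tmul a z =>
      induction z using TensorProduct.induction_on with
      | zero => simp
      | add s w hs hw => simp only [TensorProduct.tmul_add, map_add, hs, hw]
      | tmul p q =>
        simp only [t, t', AlgHom.comp_apply, Algebra.TensorProduct.assoc_symm_tmul, Algebra.TensorProduct.map_tmul,
          AlgHom.id_apply, toProd_tmul, map_mul, ev_ev, associator_hom_fst, associator_hom_snd_fst,
          associator_hom_snd_snd, _root_.mul_assoc]
  have h1 : t (Algebra.TensorProduct.map (coactOf R.r) (AlgHom.id k (Fn G)) (coactOf R.r x)) =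
      ev ((R.r ▷ G) ≫ R.r) x := by
    rw [← ev_ev, ← toProd_coactOf R.r x, ← tensorHom_id, ← toProd_map, hidG]
    show toProd (R.P ⊗ G) G _ = _
    congr 1
    have hc : (toProd R.P G).comp (coactOf R.r) = ev R.r := AlgHom.ext (toProd_coactOf R.r)
    rw [← hc, show AlgHom.id k (Fn G) = (AlgHom.id k (Fn G)).comp (AlgHom.id k (Fn G)) from rfl,
      Algebra.TensorProduct.map_comp]
    rfl
  have h2 : t' (Algebra.TensorProduct.map (AlgHom.id k (Fn R.P)) (comul G) (coactOf R.r x)) =
      ev ((R.P ◁ μ[G]) ≫ R.r) x := by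
    rw [← ev_ev, ← toProd_coactOf R.r x, ← id_tensorHom, ← toProd_map, hidP]
    show toProd R.P (G ⊗ G) _ = _
    congr 1
    have hc : (toProd G G).comp (comul G) = ev μ[G] := AlgHom.ext (toProd_coactOf μ[G])
    rw [← hc, show AlgHom.id k (Fn R.P) = (AlgHom.id k (Fn R.P)).comp (AlgHom.id k (Fn R.P)) from rfl,
      Algebra.TensorProduct.map_comp]
    rfl
  apply (Algebra.TensorProduct.assoc k k k (Fn R.P) (Fn G) (Fn G)).symm.injective
  apply ht
  rw [AlgEquiv.symm_apply_apply, h1, htt, h2, ev_ev, R.assoc]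

variable {κ : Type u} (b : Module.Basis κ k (Fn G))

theorem coass : Coass b (coordR (comul G).toLinearMap b) (coact R) := by
  intro β x
  have h := congrArg (fun z => (TensorProduct.rid k (Fn G)).toLinearMap.lTensor (Fn R.P)
    (((b.coord β).lTensor (Fn G)).lTensor (Fn R.P) z)) (coact_coassoc R x)
  have hr : ∀ z : Fn R.P ⊗[k] Fn G, (TensorProduct.rid k (Fn G)).toLinearMap.lTensor (Fn R.P)
      (((b.coord β).lTensor (Fn G)).lTensor (Fn R.P)
        (Algebra.TensorProduct.map (AlgHom.id k (Fn R.P)) (comul G) z)) =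
      (coordR (comul G).toLinearMap b β).lTensor (Fn R.P) z := fun z => by
    induction z using TensorProduct.induction_on with
    | zero => simp
    | tmul p q => rfl
    | add s t hs ht => simp only [map_add, hs, ht]
  have hl : ∀ z : Fn R.P ⊗[k] Fn G, (TensorProduct.rid k (Fn G)).toLinearMap.lTensor (Fn R.P)
      (((b.coord β).lTensor (Fn G)).lTensor (Fn R.P)
        (Algebra.TensorProduct.assoc k k k (Fn R.P) (Fn G) (Fn G)
          (Algebra.TensorProduct.map (coactOf R.r) (AlgHom.id k (Fn G)) z))) =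
      coactOf R.r (cs b (Fn R.P) z β) := fun z => by
    induction z using TensorProduct.induction_on with
    | zero => simp
    | tmul p q =>
      rw [Algebra.TensorProduct.map_tmul, cs_tmul, map_smul]
      induction coactOf R.r p using TensorProduct.induction_on with
      | zero => simp
      | tmul s t => simp [TensorProduct.smul_tmul']
      | add s t hs ht => simp only [TensorProduct.add_tmul, map_add, smul_add, hs, ht]
    | add s t hs ht => simp only [map_add, Finsupp.add_apply, hs, ht]
  rw [hr, hl] at h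
  exact h

/-- The shear of an affine right torsor. -/
theorem shear_bijective [IsAffine S] [IsAffine R.P.left] : Function.Bijective (shear (coact R)) := by
  have H : IsPushout R.q.appTop R.q.appTop (fst R.P G).left.appTop R.r.left.appTop :=
    isPushout_appTop_of_isPullback R.isPullback
  have hpo := CommRingCat.isPushout_tensorProduct (Bas R) (Fn R.P) (Fn R.P)
  have H' : IsPushout (CommRingCat.ofHom (algebraMap (Bas R) (Fn R.P))) (CommRingCat.ofHom (algebraMap (Bas R) (Fn R.P)))
      (fst R.P G).left.appTop R.r.left.appTop := H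
  let ε := hpo.isoIsPushout _ _ H'
  have h1 : ∀ a, ε.hom (a ⊗ₜ[Bas R] (1 : Fn R.P)) = (fst R.P G).left.appTop a := fun a =>
    congr($(IsPushout.inl_isoIsPushout_hom _ _ hpo H') a)
  have h2 : ∀ c, ε.hom ((1 : Fn R.P) ⊗ₜ[Bas R] c) = R.r.left.appTop c := fun c =>
    congr($(IsPushout.inr_isoIsPushout_hom _ _ hpo H') c)
  have he : (toProd R.P G).toRingHom.comp (shear (coact R)).toRingHom = ε.hom.hom := by
    refine Algebra.TensorProduct.ringHom_ext (RingHom.ext fun a => ?_) (RingHom.ext fun c => ?_)
    · show toProd R.P G (shear (coact R) (a ⊗ₜ[Bas R] (1 : Fn R.P))) = ε.hom (a ⊗ₜ[Bas R] (1 : Fn R.P))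
      rw [h1, shear_tmul, map_one, Algebra.TensorProduct.one_def, TensorProduct.smul_tmul', smul_eq_mul,
        _root_.mul_one, toProd_tmul, map_one, _root_.mul_one]
      rfl
    · show toProd R.P G (shear (coact R) ((1 : Fn R.P) ⊗ₜ[Bas R] c)) = ε.hom ((1 : Fn R.P) ⊗ₜ[Bas R] c)
      rw [h2, shear_tmul, one_smul, coact_apply, toProd_coactOf]
      rfl
  have hb : Function.Bijective ((toProd R.P G) ∘ (shear (coact R))) := by
    show Function.Bijective ⇑((toProd R.P G).toRingHom.comp (shear (coact R)).toRingHom)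
    rw [he]
    exact ConcreteCategory.bijective_of_isIso ε.hom
  exact (Function.Bijective.of_comp_iff' (toProd_bijective R.P G) _).1 hb

theorem faithfullyFlat_of_affine [IsAffine S] [IsAffine R.P.left] [Flat R.q] [Surjective R.q] :
    Module.FaithfullyFlat (Bas R) (Fn R.P) :=
  RingHom.faithfullyFlat_algebraMap_iff.1
    ((Flat.flat_and_surjective_iff_faithfullyFlat_of_isAffine (f := R.q)).1 ⟨inferInstance, inferInstance⟩)

/-- Restriction of functions, multiplicatively. -/
theorem res_ker {P : Scheme.{u}} (W : P.Opens) (x : Γ(P, ⊤)) :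
    W.topIso.hom (W.ι.appTop x) = P.presheaf.map (homOfLE (le_top : W ≤ ⊤)).op x := by
  rw [Scheme.Opens.ι_appTop, Scheme.Opens.topIso_hom]
  exact (ConcreteCategory.congr_hom (P.presheaf.map_comp _ _) x).symm

section Global

variable [IsAffine S] {J : Type u} [Finite J] (g : J → Γ(S, ⊤))

/-- Faithful flatness of the functions. -/
theorem faithfullyFlat_appTop [Nonempty κ] (deg : κ → ℕ) (hb : Triangular b deg (coordR (comul G).toLinearMap b))
    (hdeep : Deep g) (hcov : ∀ y, ∃ i, R.q y ∈ S.basicOpen (g i))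
    (hflat : ∀ i, Flat (R.q ∣_ S.basicOpen (g i))) (hsurj : ∀ i, Surjective (R.q ∣_ S.basicOpen (g i)))
    (haff : ∀ i, IsAffineHom (R.q ∣_ S.basicOpen (g i))) :
    Flat (Spec.map R.q.appTop) ∧ Surjective (Spec.map R.q.appTop) := by
  haveI hqs : QuasiCompact (R.q ≫ σ) := by rw [R.hq]; infer_instance
  haveI hss : IsSeparated (R.q ≫ σ) := by rw [R.hq]; infer_instance
  haveI : QuasiCompact R.q := QuasiCompact.of_comp R.q σ
  haveI : IsSeparated R.q := IsSeparated.of_comp R.q σ
  let gb : J → Bas R := g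
  let D : J → S.Opens := fun i => S.basicOpen (g i)
  have hDaff : ∀ i, IsAffine (D i).toScheme := fun i => (isAffineOpen_top S).basicOpen (g i)
  haveI : ∀ i, IsAffine (D i).toScheme := hDaff
  let W : J → R.P.left.Opens := fun i => R.q ⁻¹ᵁ D i
  haveI : ∀ i, IsAffine (W i).toScheme := fun i => by haveI := haff i; exact isAffine_of_isAffineHom (R.q ∣_ D i)
  haveI : ∀ i, IsAffine (R.restrict (D i)).P.left := fun i => ‹∀ i, IsAffine (W i).toScheme› i
  haveI : ∀ i, Flat (R.restrict (D i)).q := hflat
  haveI : ∀ i, Surjective (R.restrict (D i)).q := hsurj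
  -- restriction maps
  let res : ∀ i, Fn R.P →ₐ[k] Fn (R.restrict (D i)).P := fun i => ev (R.incl (D i))
  let res0 : ∀ i, Bas R →+* Bas (R.restrict (D i)) := fun i => (D i).ι.appTop.hom
  have hres0 : ∀ i a, res i (algebraMap (Bas R) (Fn R.P) a) =
      algebraMap (Bas (R.restrict (D i))) (Fn (R.restrict (D i)).P) (res0 i a) := fun i a => by
    show (R.q ⁻¹ᵁ D i).ι.appTop (R.q.appTop a) = (R.q ∣_ D i).appTop ((D i).ι.appTop a)
    rw [← CommRingCat.comp_apply R.q.appTop, ← CommRingCat.comp_apply (D i).ι.appTop, ← Scheme.Hom.comp_appTop,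
      ← Scheme.Hom.comp_appTop, morphismRestrict_ι]
  have hsmul : ∀ i (a : Bas R) x, res i (a • x) = res0 i a • res i x := fun i a x => by
    rw [Algebra.smul_def, Algebra.smul_def, map_mul, hres0]
  have hδ : ∀ i x, coact (R.restrict (D i)) (res i x) =
      Algebra.TensorProduct.map (res i) (AlgHom.id k (Fn G)) (coact R x) := fun i x =>
    coactOf_natural (R.incl (D i)) (R.incl (D i)) (R.r_incl (D i)) x
  have hc : ∀ i idx x, c b (coact (R.restrict (D i))) idx (res i x) = res i (c b (coact R) idx x) := fun i idx x => by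
    rw [c_apply, c_apply, hδ, cs_map]
  -- localization
  have hres_eq : ∀ i (x : Fn R.P), (W i).topIso.hom (res i x) =
      resD (V := (⊤ : S.Opens)) R.q (g i) x := fun i x => res_ker (W i) x
  have hker : ∀ i (x : Fn R.P), res i x = 0 → ∃ n : ℕ, gb i ^ n • x = 0 := fun i x hx => by
    haveI := isLocalizedModule_resD R.q (g i) (isAffineOpen_top S)
    have h0 : resD (V := (⊤ : S.Opens)) R.q (g i) x = 0 := by rw [← hres_eq, hx]; exact map_zero _
    obtain ⟨⟨_, n, rfl⟩, hn⟩ := (IsLocalizedModule.eq_zero_iff (Submonoid.powers (g i))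
      (resDₐ (V := (⊤ : S.Opens)) R.q (g i)).toLinearMap).1 h0
    exact ⟨n, hn⟩
  have hlift : ∀ i (y : Fn (R.restrict (D i)).P), ∃ (n : ℕ) (x : Fn R.P), res i x = res0 i (gb i ^ n) • y := by
    intro i y
    haveI := isLocalizedModule_resD R.q (g i) (isAffineOpen_top S)
    obtain ⟨⟨x, ⟨_, n, rfl⟩⟩, hx⟩ := IsLocalizedModule.surj (Submonoid.powers (g i))
      (resDₐ (V := (⊤ : S.Opens)) R.q (g i)).toLinearMap ((W i).topIso.hom y)
    refine ⟨n, x, (ConcreteCategory.bijective_of_isIso (W i).topIso.hom).1 ?_⟩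
    rw [Algebra.smul_def, ← hres0]
    let φ : Fn (R.restrict (D i)).P →+* Γ(R.P.left, W i) := (W i).topIso.hom.hom
    show φ (res i x) = φ (res i (algebraMap (Bas R) (Fn R.P) (gb i ^ n)) * y)
    rw [map_mul φ]
    refine (hres_eq i x).trans (hx.symm.trans ?_)
    refine Eq.trans (Algebra.smul_def (R := Γ(S, ⊤)) (A := SecD R.q (g i)) (g i ^ n) (φ y)) ?_
    exact congrArg (· * φ y) (hres_eq i _).symm
  have hlift0 : ∀ i (y : Bas (R.restrict (D i))), ∃ (n : ℕ) (a : Bas R), res0 i a = res0 i (gb i ^ n) * y := by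
    intro i y
    haveI := (isAffineOpen_top S).isLocalization_basicOpen (g i)
    obtain ⟨⟨a, ⟨_, n, rfl⟩⟩, ha⟩ := IsLocalization.surj (Submonoid.powers (g i)) ((D i).topIso.hom y)
    refine ⟨n, a, (ConcreteCategory.bijective_of_isIso (D i).topIso.hom).1 ?_⟩
    let φ : Bas (R.restrict (D i)) →+* Γ(S, D i) := (D i).topIso.hom.hom
    show φ (res0 i a) = φ (res0 i (gb i ^ n) * y)
    rw [map_mul φ, mul_comm]
    exact (res_ker (D i) a).trans (ha.symm.trans (congrArg (φ y * ·) (res_ker (D i) (g i ^ n)).symm))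
  have hker0 : ∀ i (a : Bas R), res0 i a = 0 → ∃ n : ℕ, gb i ^ n * a = 0 := fun i a ha => by
    haveI := (isAffineOpen_top S).isLocalization_basicOpen (g i)
    have h0 : algebraMap Γ(S, ⊤) Γ(S, D i) a = 0 := by
      show S.presheaf.map (homOfLE (le_top : D i ≤ ⊤)).op a = 0
      rw [← res_ker (D i)]
      show (D i).topIso.hom (res0 i a) = 0
      rw [ha]; exact map_zero _
    obtain ⟨⟨_, n, rfl⟩, hn⟩ := (IsLocalization.map_eq_zero_iff (Submonoid.powers (g i)) _ _).1 h0
    exact ⟨n, hn⟩
  -- local facts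
  have hff : ∀ i, Module.FaithfullyFlat (Bas (R.restrict (D i))) (Fn (R.restrict (D i)).P) := fun i =>
    faithfullyFlat_of_affine (R.restrict (D i))
  have hdeep' : Deep gb := hdeep
  have hB : GLoc gb (Fn R.P) :=
    gloc_sec (V := (⊤ : S.Opens)) R.q g (isAffineOpen_top S) fun y _ => hcov y
  obtain ⟨-, hfaith⟩ := free_of_coaction (A := Bas R) (B := Fn R.P) (g := gb) hdeep' hB
    (coact_injective R) hb (coass R b)
    (fun i a ha => hker0 i a (by
      haveI := hff i
      refine (FaithfulSMul.algebraMap_injective (Bas (R.restrict (D i))) (Fn (R.restrict (D i)).P)) ?_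
      exact ((hres0 i a).symm.trans ((congrArg (res i) ha).trans (map_zero _))).trans (map_zero _).symm))
    (fun i x hx => by
      haveI := hff i
      obtain ⟨a', ha'⟩ := exists_algebraMap_eq_of_invariant (δ := coact (R.restrict (D i)))
        (shear_bijective (R.restrict (D i))).1 (x := res i x) ((hδ i x).trans ((congrArg _ hx).trans rfl))
      obtain ⟨n, a, ha⟩ := hlift0 i a'
      obtain ⟨m, hm⟩ := hker i (gb i ^ n • x - algebraMap _ _ a) (by
        rw [map_sub, hsmul, hres0, ha, map_mul, ha', Algebra.smul_def, sub_self])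
      refine ⟨m + n, gb i ^ m * a, ?_⟩
      rw [pow_add, mul_smul, map_mul, ← Algebra.smul_def]
      rw [smul_sub, sub_eq_zero] at hm
      exact hm)
    (fun i α => by
      haveI := hff i
      obtain ⟨y, hy⟩ := exists_isLift_of_torsor (δ := coact (R.restrict (D i))) hb
        (coass (R.restrict (D i)) b) (shear_bijective (R.restrict (D i))) α
      obtain ⟨n, x, hx⟩ := hlift i y
      let r : Fn R.P := algebraMap (Bas R) (Fn R.P) (gb i ^ n)
      have key : ∀ idx, deg α ≤ deg idx → res i (c b (coact R) idx x - if idx = α then r else 0) = 0 := fun idx hγ => by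
        rw [map_sub, ← hc, hx, map_smul]
        split_ifs with h
        · rw [(hy idx hγ).1 h, hres0, Algebra.smul_def, _root_.mul_one, sub_self]
        · rw [(hy idx hγ).2 h, smul_zero, map_zero, sub_self]
      have hex' : ∀ idx, ∃ m : ℕ, deg α ≤ deg idx → gb i ^ m • (c b (coact R) idx x - if idx = α then r else 0) = 0 :=
        fun idx => by
        by_cases hγ : deg α ≤ deg idx
        · obtain ⟨m, hm⟩ := hker i _ (key idx hγ)
          exact ⟨m, fun _ => hm⟩
        · exact ⟨0, fun h => absurd h hγ⟩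
      choose m hm using hex'
      let T : Finset κ := insert α (cs b (Fn R.P) (coact R x)).support
      let N := T.sup m
      refine ⟨N + n, gb i ^ N • x, fun idx hγ => ?_⟩
      have hall : gb i ^ N • (c b (coact R) idx x - if idx = α then r else 0) = 0 := by
        by_cases hT : idx ∈ T
        · have hle : m idx ≤ N := Finset.le_sup hT
          rw [← Nat.sub_add_cancel hle, pow_add, mul_smul, hm idx hγ, smul_zero]
        · simp only [T, Finset.mem_insert, Finsupp.mem_support_iff, not_or, not_not] at hT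
          rw [if_neg hT.1, sub_zero, c_apply, hT.2, smul_zero]
      rw [smul_sub, sub_eq_zero, ← map_smul] at hall
      constructor <;> intro h
      · rw [hall, if_pos h, pow_add, map_mul, ← Algebra.smul_def]
      · rw [hall, if_neg h, smul_zero])
  have h := (RingHom.faithfullyFlat_algebraMap_iff).2 hfaith
  exact (flat_and_surjective_SpecMap_iff _).2 h

end Global

end Groth.Agent.NonAbLib.UnipExt
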