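import Groth.Agent.NonAbLib.UnipExt.Hartogs
import Groth.Prelude.Def_ActBC
import Mathlib.AlgebraicGeometry.Morphisms.Affine

/-!
# Extending actions and isomorphisms of torsors across depth two
-/

set_option autoImplicit false
set_option linter.style.haveILetI false

universe u

open CategoryTheory CategoryTheory.Limits MonoidalCategory CartesianMonoidalCategory MonObj GrpObj AlgebraicGeometry

noncomputable section

namespace Groth.Agent.NonAbLib.UnipExt

variable {S : Scheme.{u}} {U : S.Opens} {G E : Over S}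

theorem flat_tensor [Flat G.hom] [Flat E.hom] : Flat (G ⊗ E).hom :=
  inferInstanceAs (Flat (pullback.fst G.hom E.hom ≫ G.hom))

theorem isAffineHom_tensor [IsAffineHom G.hom] [IsAffineHom E.hom] : IsAffineHom (G ⊗ E).hom :=
  haveI : IsAffineHom (pullback.fst G.hom E.hom) := MorphismProperty.pullback_fst G.hom E.hom inferInstance
  inferInstanceAs (IsAffineHom (pullback.fst G.hom E.hom ≫ G.hom))

variable [GrpObj G]

/-- An action transported along an isomorphism. -/
def transport {B : Scheme.{u}} {H X Y : Over B} [GrpObj H] (a : AlgGrp.Action H X) (e : Y ≅ X) :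
    AlgGrp.Action H Y where
  act := (H ◁ e.hom) ≫ a.act ≫ e.inv
  one_act := by
    rw [← whisker_exchange_assoc, reassoc_of% a.one_act]
    simp
  mul_act := by
    rw [← whisker_exchange_assoc, reassoc_of% a.mul_act]
    simp

theorem isPseudoTorsor_transport {B : Scheme.{u}} {H X Y : Over B} [GrpObj H] (a : AlgGrp.Action H X) (e : Y ≅ X)
    (ha : NonAbH1.IsPseudoTorsorSch a) : NonAbH1.IsPseudoTorsorSch (transport a e) := by
  haveI : IsIso (lift a.act (snd H X)) := ha
  show IsIso (lift ((H ◁ e.hom) ≫ a.act ≫ e.inv) (snd H Y))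
  rw [show lift ((H ◁ e.hom) ≫ a.act ≫ e.inv) (snd H Y) = (H ◁ e.hom) ≫ lift a.act (snd H X) ≫ (e.inv ⊗ₘ e.inv) by
    apply CartesianMonoidalCategory.hom_ext <;> simp]
  infer_instance

/-- The identity of transported actions. -/
def equivIso_transport {B : Scheme.{u}} {H X Y : Over B} [GrpObj H] (a : AlgGrp.Action H X) (e : Y ≅ X) :
    NonAbH1.EquivIso (transport a e) a where
  iso := e
  comm := by simp [transport]

variable [IsAffineHom G.hom] [Flat G.hom] [IsAffineHom E.hom] [Flat E.hom] [QuasiCompact U.ι]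


omit [IsAffineHom G.hom] in
/-- An action over the open extends. -/
theorem exists_action_extend (hU : Depth2Outside U) (aU : AlgGrp.Action (Red.bc U.ι G) (Red.bc U.ι E)) :
    ∃ a : AlgGrp.Action G E, a.bc U.ι = aU := by
  haveI := flat_tensor (G := G) (E := E)
  obtain ⟨act, hact⟩ := pullback_map_surjective (Z := G ⊗ E) (Y := E) hU
    ((Functor.Monoidal.μIso (Over.pullback U.ι) G E).inv ≫ aU.act)
  have hμ : Functor.LaxMonoidal.μ (Over.pullback U.ι) G E ≫ (Over.pullback U.ι).map act = aU.act := by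
    rw [hact, ← Category.assoc, ← Functor.Monoidal.μIso_hom, Iso.hom_inv_id, Category.id_comp]
  haveI : Flat (𝟙_ (Over S)).hom := inferInstanceAs (Flat (𝟙 S))
  haveI := flat_tensor (G := 𝟙_ (Over S)) (E := E)
  haveI := flat_tensor (G := G) (E := G)
  haveI := flat_tensor (G := G ⊗ G) (E := E)
  have h1 : (η[G] ▷ E) ≫ act = (λ_ E).hom := by
    refine pullback_map_injective (Z := 𝟙_ _ ⊗ E) (Y := E) hU ?_
    rw [← cancel_epi (Functor.Monoidal.μIso (Over.pullback U.ι) (𝟙_ (Over S)) E).hom, Functor.Monoidal.μIso_hom, Functor.map_comp,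
      ← Functor.LaxMonoidal.μ_natural_left_assoc, hμ,
      ← cancel_epi ((Functor.Monoidal.εIso (Over.pullback U.ι)).hom ▷ (Over.pullback U.ι).obj E), Functor.Monoidal.εIso_hom,
      ← Functor.LaxMonoidal.left_unitality, ← comp_whiskerRight_assoc, ← Functor.obj.η_def]
    exact aU.one_act
  have h2 : (μ[G] ▷ E) ≫ act = (α_ G G E).hom ≫ (G ◁ act) ≫ act := by
    refine pullback_map_injective (Z := (G ⊗ G) ⊗ E) (Y := E) hU ?_
    rw [← cancel_epi (Functor.Monoidal.μIso (Over.pullback U.ι) (G ⊗ G) E).hom, Functor.Monoidal.μIso_hom, Functor.map_comp,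
      Functor.map_comp, Functor.map_comp, ← Functor.LaxMonoidal.μ_natural_left_assoc, hμ,
      ← cancel_epi ((Functor.Monoidal.μIso (Over.pullback U.ι) G G).hom ▷ (Over.pullback U.ι).obj E), Functor.Monoidal.μIso_hom,
      Functor.LaxMonoidal.associativity_assoc, ← Functor.LaxMonoidal.μ_natural_right_assoc, hμ,
      ← comp_whiskerRight_assoc, ← Functor.obj.μ_def, ← MonoidalCategory.whiskerLeft_comp_assoc, hμ]
    exact aU.mul_act
  exact ⟨⟨act, h1, h2⟩, AlgGrp.Action.ext' hμ⟩

omit [IsAffineHom G.hom] in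
/-- Pseudo-torsors extend. -/
theorem isPseudoTorsor_of_bc [IsAffineHom G.hom] (hU : Depth2Outside U) (a : AlgGrp.Action G E)
    (ha : NonAbH1.IsPseudoTorsorSch (a.bc U.ι)) : NonAbH1.IsPseudoTorsorSch a := by
  haveI := flat_tensor (G := G) (E := E)
  haveI := flat_tensor (G := E) (E := E)
  haveI := isAffineHom_tensor (G := G) (E := E)
  haveI := isAffineHom_tensor (G := E) (E := E)
  haveI : IsIso (lift (a.bc U.ι).act (snd _ _)) := ha
  have key : lift (a.bc U.ι).act (snd _ _) ≫ Functor.LaxMonoidal.μ (Over.pullback U.ι) E E =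
      Functor.LaxMonoidal.μ (Over.pullback U.ι) G E ≫ (Over.pullback U.ι).map (lift a.act (snd G E)) := by
    rw [← Functor.Monoidal.lift_μ, comp_lift_assoc, Functor.Monoidal.μ_snd, AlgGrp.Action.bc_act]
  have : IsIso ((Over.pullback U.ι).map (lift a.act (snd G E))) := by
    have : IsIso (Functor.LaxMonoidal.μ (Over.pullback U.ι) G E ≫ (Over.pullback U.ι).map (lift a.act (snd G E))) := key ▸ inferInstance
    exact IsIso.of_isIso_comp_left (Functor.LaxMonoidal.μ (Over.pullback U.ι) G E) _
  exact isIso_of_pullback_map hU (lift a.act (snd G E))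

omit [IsAffineHom G.hom] in
/-- Isomorphisms over the open extend. -/
theorem nonempty_equivIso_of_bc {E' : Over S} [IsAffineHom E'.hom] [Flat E'.hom] (hU : Depth2Outside U)
    (a : AlgGrp.Action G E) (a' : AlgGrp.Action G E') (e : NonAbH1.EquivIso (a.bc U.ι) (a'.bc U.ι)) :
    Nonempty (NonAbH1.EquivIso a a') := by
  obtain ⟨h, hh⟩ := pullback_map_surjective (Z := E) (Y := E') hU e.iso.hom
  haveI : IsIso ((Over.pullback U.ι).map h) := hh ▸ inferInstance
  haveI := isIso_of_pullback_map hU h
  haveI := flat_tensor (G := G) (E := E)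
  refine ⟨⟨asIso h, pullback_map_injective (Z := G ⊗ E) (Y := E') hU ?_⟩⟩
  have hc := e.comm
  rw [AlgGrp.Action.bc_act, AlgGrp.Action.bc_act, Category.assoc, ← hh,
    Functor.LaxMonoidal.μ_natural_right_assoc] at hc
  rw [asIso_hom, Functor.map_comp, Functor.map_comp, ← cancel_epi (Functor.Monoidal.μIso (Over.pullback U.ι) G E).hom,
    Functor.Monoidal.μIso_hom, hc]

end Groth.Agent.NonAbLib.UnipExt
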