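import Groth.Agent.RelSpecX.AffHom
import Groth.Agent.RelSpecX.Gamma
import Groth.Agent.NonAbLib.Extend.Global
import Groth.Prelude.Def_RelSpec

/-!
# The affine hull over the base of a scheme affine over an open
-/

set_option autoImplicit false
set_option linter.style.haveILetI false

universe u

open CategoryTheory CategoryTheory.Limits AlgebraicGeometry TopologicalSpace Opposite

noncomputable section

namespace Groth.Agent.NonAbLib.UnipExt

variable {S X : Scheme.{u}} (q : X ⟶ S) [QuasiCompact q] [QuasiSeparated q]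

/-- The spectrum of the direct image. -/
abbrev hull : RelSpec.QCAlg S := RelSpec.QCAlg.directImage q

/-- The morphism into the hull. -/
def toHull : X ⟶ (hull q).spec :=
  RelSpecX.ofAlgHom (hull q).π q ⟨(hull q).gammaMap, (hull q).π_c_gammaMap⟩

theorem toHull_π : toHull q ≫ (hull q).π = q := RelSpecX.ofAlgHom_comp _ _ _

theorem toHull_appLE_bijective (U : S.affineOpens) :
    Function.Bijective ((toHull q).appLE ((hull q).π ⁻¹ᵁ U.1) (q ⁻¹ᵁ U.1)
      (RelSpecX.preimage_eq (hull q).π q (toHull q) (toHull_π q) U.1).le) := by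
  have h := RelSpecX.appLE_ofAlgHom (hull q).π q ⟨(hull q).gammaMap, (hull q).π_c_gammaMap⟩ U
    (RelSpecX.preimage_eq (hull q).π q (toHull q) (toHull_π q) U.1).le
  show Function.Bijective ((RelSpecX.ofAlgHom (hull q).π q
    ⟨(hull q).gammaMap, (hull q).π_c_gammaMap⟩).appLE _ _ _)
  rw [h]
  exact @ConcreteCategory.bijective_of_isIso _ _ _ _ _ _ _ _ ((hull q).gammaMap.app (op U.1))
    (@NatIso.isIso_app_of_isIso _ _ _ _ _ _ (hull q).gammaMap (RelSpecX.isIso_gammaMap (hull q)) _)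

/-- Flatness and surjectivity of the hull are affine local on the sections. -/
theorem flat_surjective_hull
    (h : ∀ (V : S.Opens), IsAffineOpen V → Flat (Spec.map (q.app V)) ∧ Surjective (Spec.map (q.app V))) :
    Flat (hull q).π ∧ Surjective (hull q).π := by
  have hι : ∀ V : S.affineOpens, (hull q).ι V.1 V.2 ≫ (hull q).π = Spec.map (q.app V.1) ≫ V.2.fromSpec :=
    fun V => (hull q).ι_π V.1 V.2
  constructor
  · refine IsZariskiLocalAtSource.of_openCover (P := @Flat) (hull q).glueData.cover fun V => ?_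
    show Flat ((hull q).ι V.1 V.2 ≫ (hull q).π)
    rw [hι ⟨V.1, V.2⟩]
    exact MorphismProperty.comp_mem (W := @Flat) _ _ (h V.1 V.2).1 inferInstance
  · refine ⟨fun x => ?_⟩
    obtain ⟨_, ⟨V, hV, rfl⟩, hxV, -⟩ :=
      S.isBasis_affineOpens.exists_subset_of_mem_open (Set.mem_univ x) isOpen_univ
    obtain ⟨y, hy⟩ : x ∈ Set.range hV.fromSpec := by rw [hV.range_fromSpec]; exact hxV
    haveI := (h V hV).2
    obtain ⟨z, hz⟩ := (Spec.map (q.app V)).surjective y
    refine ⟨(hull q).ι V hV z, ?_⟩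
    rw [← Scheme.Hom.comp_apply, hι ⟨V, hV⟩, ← hy, ← hz]
    rfl

omit [QuasiCompact q] [QuasiSeparated q] in
/-- From a chart to the sections. -/
theorem flat_surjective_app (V : S.Opens)
    (h : Flat (Spec.map (q ∣_ V).appTop) ∧ Surjective (Spec.map (q ∣_ V).appTop)) :
    Flat (Spec.map (q.app V)) ∧ Surjective (Spec.map (q.app V)) := by
  rw [morphismRestrict_appTop] at h
  have key : ∀ W : S.Opens, W = V → ∀ {C : CommRingCat.{u}} (i : Γ(X, q ⁻¹ᵁ W) ⟶ C) [IsIso i],
      Flat (Spec.map (q.app W ≫ i)) ∧ Surjective (Spec.map (q.app W ≫ i)) →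
      Flat (Spec.map (q.app V)) ∧ Surjective (Spec.map (q.app V)) := by
    rintro W rfl C i _ ⟨h1, h2⟩
    rw [Spec.map_comp] at h1 h2
    exact ⟨(MorphismProperty.cancel_left_of_respectsIso @Flat _ _).1 h1,
      (MorphismProperty.cancel_left_of_respectsIso @Surjective _ _).1 h2⟩
  refine @key _ V.ι_image_top _ _ ?_ h
  exact Functor.map_isIso _ _

variable {U : S.Opens} (p : X ⟶ U) [IsAffineHom p]

omit [QuasiCompact q] [QuasiSeparated q] in
/-- Over the open the hull is the scheme. -/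
theorem isPullback_of_bijective {E : Scheme.{u}} (π : E ⟶ S) [IsAffineHom π] (j : X ⟶ E)
    (hq : p ≫ U.ι = q) (hjπ : j ≫ π = q)
    (hb : ∀ W : S.affineOpens, W.1 ≤ U →
      Function.Bijective (j.appLE (π ⁻¹ᵁ W.1) (q ⁻¹ᵁ W.1) (RelSpecX.preimage_eq π q j hjπ W.1).le)) :
    IsPullback j p π U.ι := by
  subst hq
  let r : X ⟶ pullback π U.ι := pullback.lift j p hjπ
  suffices IsIso r from
    IsPullback.of_iso_pullback ⟨hjπ⟩ (asIso r) (pullback.lift_fst _ _ _) (pullback.lift_snd _ _ _)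
  haveI : IsAffineHom (r ≫ pullback.snd π U.ι) := by rw [pullback.lift_snd]; infer_instance
  haveI : IsAffineHom (pullback.snd π U.ι) := MorphismProperty.pullback_snd π U.ι inferInstance
  haveI : IsAffineHom r := IsAffineHom.of_comp r (pullback.snd π U.ι)
  have hUcov : (⨆ W : {V : S.affineOpens // V.1 ≤ U}, pullback.snd π U.ι ⁻¹ᵁ (U.ι ⁻¹ᵁ W.1.1)) = ⊤ := by
    refine top_le_iff.1 fun y _ => ?_
    obtain ⟨_, ⟨W, hW, rfl⟩, hzW, hWU⟩ :=
      S.isBasis_affineOpens.exists_subset_of_mem_open (pullback.snd π U.ι y).2 U.2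
    exact Opens.mem_iSup.2 ⟨⟨⟨W, hW⟩, hWU⟩, hzW⟩
  refine (IsZariskiLocalAtTarget.iff_of_iSup_eq_top (P := MorphismProperty.isomorphisms Scheme) _ hUcov).2
    fun W => ?_
  obtain ⟨⟨W, hW'⟩, hWU⟩ := W
  have hW : IsAffineOpen W := hW'
  have hWaff : IsAffineOpen (U.ι ⁻¹ᵁ W) :=
    hW.preimage_of_isOpenImmersion U.ι (by rw [Scheme.Opens.opensRange_ι]; exact hWU)
  show IsIso (r ∣_ _)
  rw [isIso_morphismRestrict_iff_isIso_app r (hWaff.preimage (pullback.snd π U.ι))]
  have hopen : pullback.snd π U.ι ⁻¹ᵁ (U.ι ⁻¹ᵁ W) = pullback.fst π U.ι ⁻¹ᵁ (π ⁻¹ᵁ W) := by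
    rw [← Scheme.Hom.comp_preimage, ← Scheme.Hom.comp_preimage, pullback.condition]
  rw [hopen]
  haveI : IsIso ((pullback.fst π U.ι).app (π ⁻¹ᵁ W)) := Scheme.Hom.isIso_app _ _ fun y hy => by
    show y ∈ Set.range (pullback.fst π U.ι).base
    rw [Scheme.Pullback.range_fst, Scheme.Opens.range_ι]
    exact hWU hy
  have hcomp : Function.Bijective ((pullback.fst π U.ι).app (π ⁻¹ᵁ W) ≫
      r.app (pullback.fst π U.ι ⁻¹ᵁ (π ⁻¹ᵁ W))) := by
    rw [← Scheme.Hom.comp_app, Scheme.Hom.app_eq_appLE]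
    refine Extend.bijective_appLE_congr (pullback.lift_fst j p hjπ).symm ?_ _ _ (hb ⟨W, hW⟩ hWU)
    show (p ≫ U.ι) ⁻¹ᵁ W = (pullback.lift j p hjπ ≫ pullback.fst π U.ι) ⁻¹ᵁ π ⁻¹ᵁ W
    rw [pullback.lift_fst, ← Scheme.Hom.comp_preimage, hjπ]
  rw [ConcreteCategory.isIso_iff_bijective]
  refine (Function.Bijective.of_comp_iff _ (ConcreteCategory.bijective_of_isIso
    ((pullback.fst π U.ι).app (π ⁻¹ᵁ W)))).1 ?_
  exact hcomp

theorem isPullback_hull (hq : p ≫ U.ι = q) : IsPullback (toHull q) p (hull q).π U.ι :=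
  isPullback_of_bijective q p (hull q).π (toHull q) hq (toHull_π q) fun W _ => toHull_appLE_bijective q W

end Groth.Agent.NonAbLib.UnipExt
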