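import Groth.Agent.NonAbLib.UnipExt.Delta
import Groth.Agent.NonAbLib.UnipExt.Adapted
import Groth.Agent.Obs28.Unip.Fixed
import Groth.Agent.GrpSchLib.AntiAffineHom
import Groth.Prelude.Def_ActBC

/-!
# The unipotent filtration is exhaustive

For a smooth connected affine group without geometric subtori the functions are exhausted by the
filtration, by the fixed vectors of regular representations over an algebraically closed field.
-/

set_option autoImplicit false
set_option linter.style.haveILetI false

universe u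

open CategoryTheory CategoryTheory.Limits MonoidalCategory CartesianMonoidalCategory MonObj GrpObj AlgebraicGeometry
open scoped TensorProduct

noncomputable section

namespace Groth.Agent.NonAbLib.UnipExt

open GrpSchLib.Kunneth Obs28

variable {k : Type u} [Field k] (G : Over (Spec (CommRingCat.of k))) [GrpObj G] [IsAffine G.left]
  (K : Type u) [Field K] [Algebra k K]

/-- The morphism of the field extension. -/
abbrev σK : Spec (CommRingCat.of K) ⟶ Spec (CommRingCat.of k) := Spec.map (CommRingCat.ofHom (algebraMap k K))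

/-- The base change of the group. -/
abbrev GK : Over (Spec (CommRingCat.of K)) := Red.bc (σK (k := k) K) G

instance : IsAffine (GK G K).left := inferInstanceAs (IsAffine (pullback G.hom (σK (k := k) K)))

/-- Base change of functions. -/
def toGK : Fn G →+* Fn (GK G K) := (pullback.fst G.hom (σK (k := k) K)).appTop.hom

theorem toGK_algebraMap (c : k) :
    toGK G K (algebraMap k (Fn G) c) = algebraMap K (Fn (GK G K)) (algebraMap k K c) := by
  show (pullback.fst G.hom (σK (k := k) K)).appTop (G.hom.appTop ((Scheme.ΓSpecIso (CommRingCat.of k)).inv c)) =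
    (pullback.snd G.hom (σK (k := k) K)).appTop ((Scheme.ΓSpecIso (CommRingCat.of K)).inv (algebraMap k K c))
  rw [← CommRingCat.comp_apply G.hom.appTop, ← Scheme.Hom.comp_appTop, pullback.condition, Scheme.Hom.comp_appTop,
    CommRingCat.comp_apply]
  congr 1
  rw [← CommRingCat.comp_apply, ← Scheme.ΓSpecIso_inv_naturality]
  rfl

/-- The `k`-algebra of functions on the base change. -/
local instance instAlgGK : Algebra k (Fn (GK G K)) :=
  ((algebraMap K (Fn (GK G K))).comp (algebraMap k K)).toAlgebra

local instance : IsScalarTower k K (Fn (GK G K)) := IsScalarTower.of_algebraMap_eq fun _ => rfl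

/-- Functions on the base change are the tensor product. -/
def tensorToGK : K ⊗[k] Fn G →ₐ[K] Fn (GK G K) :=
  Algebra.TensorProduct.lift (Algebra.ofId K _)
    ({ toGK G K with commutes' := toGK_algebraMap G K } : Fn G →ₐ[k] Fn (GK G K)) fun _ _ => .all _ _

theorem tensorToGK_tmul (c : K) (v : Fn G) :
    tensorToGK G K (c ⊗ₜ[k] v) = algebraMap K (Fn (GK G K)) c * toGK G K v :=
  Algebra.TensorProduct.lift_tmul _ _ _ _ _

theorem tensorToGK_bijective : Function.Bijective (tensorToGK G K) := by
  have H : IsPushout G.hom.appTop (σK (k := k) K).appTop (pullback.fst G.hom (σK (k := k) K)).appTop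
      (pullback.snd G.hom (σK (k := k) K)).appTop :=
    isPushout_appTop_of_isPullback (IsPullback.of_hasPullback _ _)
  let e : Γ(Spec (CommRingCat.of k), ⊤) ≅ CommRingCat.of k := Scheme.ΓSpecIso _
  let e' : Γ(Spec (CommRingCat.of K), ⊤) ≅ CommRingCat.of K := Scheme.ΓSpecIso _
  have H' : IsPushout (CommRingCat.ofHom (algebraMap k K)) (e.inv ≫ G.hom.appTop)
      (e'.inv ≫ (pullback.snd G.hom (σK (k := k) K)).appTop) (pullback.fst G.hom (σK (k := k) K)).appTop :=
    H.flip.of_iso e e' (Iso.refl _) (Iso.refl _) (Scheme.ΓSpecIso_naturality _) (by simp) (by simp) (by simp)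
  have hpo := CommRingCat.isPushout_tensorProduct k K (Fn G)
  let ε := hpo.isoIsPushout _ _ H'
  have h1 : ∀ c, ε.hom (c ⊗ₜ[k] (1 : Fn G)) = algebraMap K (Fn (GK G K)) c := fun c =>
    congr($(IsPushout.inl_isoIsPushout_hom _ _ hpo H') c)
  have h2 : ∀ v, ε.hom ((1 : K) ⊗ₜ[k] v) = toGK G K v := fun v =>
    congr($(IsPushout.inr_isoIsPushout_hom _ _ hpo H') v)
  have he : (tensorToGK G K).toRingHom = ε.hom.hom := by
    refine Algebra.TensorProduct.ringHom_ext (RingHom.ext fun c => ?_) (RingHom.ext fun v => ?_)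
    · show tensorToGK G K (c ⊗ₜ[k] (1 : Fn G)) = ε.hom (c ⊗ₜ[k] (1 : Fn G))
      rw [h1, tensorToGK_tmul, map_one, _root_.mul_one]
    · show tensorToGK G K ((1 : K) ⊗ₜ[k] v) = ε.hom ((1 : K) ⊗ₜ[k] v)
      rw [h2, tensorToGK_tmul, map_one, _root_.one_mul]
  show Function.Bijective ⇑(tensorToGK G K).toRingHom
  rw [he]
  exact ConcreteCategory.bijective_of_isIso ε.hom

variable {G K}

/-- A point of the base change as a point of the group. -/
def gk (g : Rat (GK G K)) : VecGrp.pt k K ⟶ G :=
  Over.homMk (g.left ≫ pullback.fst G.hom (σK (k := k) K)) (by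
    rw [Category.assoc, pullback.condition, ← Category.assoc]
    refine (congrArg (· ≫ σK (k := k) K) (Over.w g)).trans ?_
    show Spec.map (CommRingCat.ofHom (algebraMap K K)) ≫ _ = Spec.map (CommRingCat.ofHom (algebraMap k K))
    rw [← Spec.map_comp]
    rfl)

theorem pfn_gk (g : Rat (GK G K)) (v : Fn G) : pfn (gk g) v = pfn g (toGK G K v) := rfl

theorem gk_mul (g h : Rat (GK G K)) : gk (g * h) = gk g * gk h := by
  let T := (Over.map (σK (k := k) K)).obj (VecGrp.pt K K)
  have w : Spec.map (CommRingCat.ofHom (algebraMap K K)) ≫ σK (k := k) K =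
      Spec.map (CommRingCat.ofHom (algebraMap k K)) := by
    have h1 : CommRingCat.ofHom (algebraMap K K) = 𝟙 (CommRingCat.of K) := by ext; rfl
    rw [h1, Spec.map_id, Category.id_comp]
  let e : VecGrp.pt k K ⟶ T := Over.homMk (𝟙 (Spec (CommRingCat.of K))) ((Category.id_comp _).trans w)
  have he : ∀ g : Rat (GK G K), gk g = e ≫ ((Over.mapPullbackAdj (σK (k := k) K)).homEquiv (VecGrp.pt K K) G).symm g :=
    fun g => Over.OverMorphism.ext (by simp [e, gk, Adjunction.homEquiv_counit])
  have hmul : ((Over.mapPullbackAdj (σK (k := k) K)).homEquiv (VecGrp.pt K K) G).symm (g * h) =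
      ((Over.mapPullbackAdj (σK (k := k) K)).homEquiv (VecGrp.pt K K) G).symm g *
        ((Over.mapPullbackAdj (σK (k := k) K)).homEquiv (VecGrp.pt K K) G).symm h := by
    rw [Equiv.symm_apply_eq, AlgGrp.Action.homEquiv_mul, Equiv.apply_symm_apply, Equiv.apply_symm_apply]
  rw [he, he g, he h, hmul, MonObj.comp_mul]

theorem gk_one : gk (1 : Rat (GK G K)) = 1 := by
  have := gk_mul (1 : Rat (GK G K)) 1
  rw [_root_.one_mul] at this
  exact left_eq_mul.1 this

section Representation

variable {Δ : Fn G →ₗ[k] Fn G ⊗[k] Fn G} (hΔ : ∀ v, Δ v = comul G v)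

local notation "Mq" => Fn G ⧸ filTop Δ

variable (K) in
/-- The action of a homomorphism on the quotient. -/
def ract (χ : Fn G →ₐ[k] K) : K ⊗[k] Mq →ₗ[K] K ⊗[k] Mq :=
  ((TensorProduct.map χ.toLinearMap (LinearMap.id : Mq →ₗ[k] Mq)) ∘ₗ rho Δ).liftBaseChange K

theorem ract_tmul (χ : Fn G →ₐ[k] K) (c : K) (m : Mq) :
    ract K χ (c ⊗ₜ[k] m) = c • TensorProduct.map χ.toLinearMap LinearMap.id (rho Δ m) :=
  LinearMap.liftBaseChange_tmul _ _ _ _

include hΔ

theorem rho_coassoc (m : Mq) :
    (rho Δ).lTensor (Fn G) (rho Δ m) = TensorProduct.assoc k (Fn G) (Fn G) Mq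
      ((Δ.rTensor Mq) (rho Δ m)) := by
  obtain ⟨v, rfl⟩ := (filTop Δ).mkQ_surjective m
  rw [rho_mk]
  have h1 : ∀ z, (rho Δ).lTensor (Fn G) ((filTop Δ).mkQ.lTensor (Fn G) z) =
      ((filTop Δ).mkQ.lTensor (Fn G)).lTensor (Fn G) (Δ.lTensor (Fn G) z) := fun z => by
    induction z using TensorProduct.induction_on with
    | zero => simp
    | tmul a c => rfl
    | add s t hs ht => simp only [map_add, hs, ht]
  have h2 : ∀ z, TensorProduct.assoc k (Fn G) (Fn G) Mq (Δ.rTensor Mq ((filTop Δ).mkQ.lTensor (Fn G) z)) =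
      ((filTop Δ).mkQ.lTensor (Fn G)).lTensor (Fn G) (TensorProduct.assoc k (Fn G) (Fn G) (Fn G) (Δ.rTensor (Fn G) z)) :=
    fun z => by
    induction z using TensorProduct.induction_on with
    | zero => simp
    | tmul a c =>
      simp only [LinearMap.rTensor_tmul, LinearMap.lTensor_tmul]
      induction Δ a using TensorProduct.induction_on with
      | zero => simp
      | tmul p q => simp
      | add s t hs ht => simp only [TensorProduct.add_tmul, map_add, hs, ht]
    | add s t hs ht => simp only [map_add, hs, ht]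
  rw [h1, h2]
  congr 1
  have hl : Δ = (comul G).toLinearMap := LinearMap.ext hΔ
  rw [hl]
  exact comul_coassoc v

theorem ract_one (x : K ⊗[k] Mq) : ract K (pfn (1 : VecGrp.pt k K ⟶ G)) x = x := by
  induction x using TensorProduct.induction_on with
  | zero => simp
  | add s t hs ht => simp only [map_add, hs, ht]
  | tmul c m =>
    obtain ⟨v, rfl⟩ := (filTop Δ).mkQ_surjective m
    have h1 : pfn (1 : VecGrp.pt k K ⟶ G) = (Algebra.ofId k K).comp (counit G) := by
      rw [counit, ← pfn_ptMap, MonObj.comp_one]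
    have h2 : ∀ z : Fn G ⊗[k] Fn G,
        TensorProduct.map (pfn (1 : VecGrp.pt k K ⟶ G)).toLinearMap LinearMap.id ((filTop Δ).mkQ.lTensor (Fn G) z) =
          (1 : K) ⊗ₜ[k] (filTop Δ).mkQ
            (Algebra.TensorProduct.productMap ((Algebra.ofId k (Fn G)).comp (counit G)) (AlgHom.id k (Fn G)) z) :=
      fun z => by
      induction z using TensorProduct.induction_on with
      | zero => simp
      | add s t hs ht => simp only [map_add, hs, ht, TensorProduct.tmul_add]
      | tmul a d =>
        rw [LinearMap.lTensor_tmul, TensorProduct.map_tmul, Algebra.TensorProduct.productMap_apply_tmul, h1]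
        show algebraMap k K (counit G a) ⊗ₜ[k] (filTop Δ).mkQ d = _
        rw [AlgHom.id_apply, AlgHom.comp_apply, Algebra.ofId_apply, ← Algebra.smul_def, map_smul,
          Algebra.algebraMap_eq_smul_one, TensorProduct.smul_tmul]
    rw [ract_tmul, rho_mk, h2, hΔ, counit_left, TensorProduct.smul_tmul', smul_eq_mul, _root_.mul_one]

theorem ract_ract (a c : VecGrp.pt k K ⟶ G) (x : K ⊗[k] Mq) :
    ract K (pfn a) (ract K (pfn c) x) = ract K (pfn (c * a)) x := by
  induction x using TensorProduct.induction_on with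
  | zero => simp
  | add s t hs ht => simp only [map_add, hs, ht]
  | tmul r m =>
    rw [ract_tmul, map_smul, ract_tmul]
    congr 1
    have h1 : ∀ z : Fn G ⊗[k] Mq, ract K (pfn a) (TensorProduct.map (pfn c).toLinearMap LinearMap.id z) =
        TensorProduct.map (Algebra.TensorProduct.productMap (pfn c) (pfn a)).toLinearMap LinearMap.id
          ((TensorProduct.assoc k (Fn G) (Fn G) Mq).symm ((rho Δ).lTensor (Fn G) z)) := fun z => by
      induction z using TensorProduct.induction_on with
      | zero => simp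
      | add s t hs ht => simp only [map_add, hs, ht]
      | tmul p n =>
        rw [TensorProduct.map_tmul, LinearMap.id_apply, ract_tmul, LinearMap.lTensor_tmul]
        induction rho Δ n using TensorProduct.induction_on with
        | zero => simp
        | tmul q w => simp [TensorProduct.smul_tmul']
        | add s t hs ht => simp only [TensorProduct.tmul_add, map_add, smul_add, hs, ht]
    rw [h1, rho_coassoc hΔ, LinearEquiv.symm_apply_apply]
    induction rho Δ m using TensorProduct.induction_on with
    | zero => simp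
    | tmul q w =>
      rw [LinearMap.rTensor_tmul, TensorProduct.map_tmul, TensorProduct.map_tmul, hΔ]
      congr 1
      exact (pfn_mul c a q).symm
    | add s t hs ht => simp only [map_add, hs, ht]

/-- The representation of the points. -/
def quotRep : Rat (GK G K) →* ((K ⊗[k] Mq) ≃ₗ[K] K ⊗[k] Mq) :=
  (LinearMap.GeneralLinearGroup.generalLinearEquiv K (K ⊗[k] Mq)).toMonoidHom.comp
    (({ toFun := fun g => ract K (pfn (gk g⁻¹))
        map_one' := LinearMap.ext fun x => by
          rw [inv_one, gk_one]
          exact ract_one hΔ x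
        map_mul' := fun g h => LinearMap.ext fun x => by
          show ract K (pfn (gk (g * h)⁻¹)) x = ract K (pfn (gk g⁻¹)) (ract K (pfn (gk h⁻¹)) x)
          rw [ract_ract hΔ, ← gk_mul, _root_.mul_inv_rev] } : Rat (GK G K) →* Module.End K (K ⊗[k] Mq)).toHomUnits)

theorem quotRep_apply (g : Rat (GK G K)) (x : K ⊗[k] Mq) : quotRep hΔ g x = ract K (pfn (gk g⁻¹)) x := rfl

theorem quotRep_regular [IsAlgClosed K] : IsRegular (quotRep (K := K) hΔ) := by
  intro x
  induction x using TensorProduct.induction_on with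
  | zero => exact ⟨0, fun g => by simp⟩
  | add s t hs ht =>
    obtain ⟨z, hz⟩ := hs
    obtain ⟨w, hw⟩ := ht
    exact ⟨z + w, fun g => by rw [map_add, map_add, hz, hw]⟩
  | tmul c m =>
    have key : ∀ w : Fn G ⊗[k] Mq, ∃ z : Fn (GK G K) ⊗[K] (K ⊗[k] Mq), ∀ g : Rat (GK G K),
        evl (pfn g) z = TensorProduct.map (pfn (gk g⁻¹)).toLinearMap LinearMap.id w := fun w => by
      induction w using TensorProduct.induction_on with
      | zero => exact ⟨0, fun g => by simp⟩
      | add s t hs ht =>
        obtain ⟨z, hz⟩ := hs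
        obtain ⟨z', hz'⟩ := ht
        exact ⟨z + z', fun g => by rw [map_add, map_add, hz, hz']⟩
      | tmul a n =>
        refine ⟨ev ι[GK G K] (toGK G K a) ⊗ₜ[K] ((1 : K) ⊗ₜ[k] n), fun g => ?_⟩
        rw [evl_tmul, TensorProduct.smul_tmul', smul_eq_mul, _root_.mul_one, TensorProduct.map_tmul, ← pfn_comp,
          LinearMap.id_apply]
        show _ = pfn (gk g⁻¹) a ⊗ₜ[k] n
        rw [pfn_gk, Hom.inv_def]
    obtain ⟨z, hz⟩ := key (rho Δ m)
    exact ⟨c • z, fun g => by rw [quotRep_apply, ract_tmul, map_smul, hz]⟩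

omit hΔ in
theorem eq_zero_of_ract [IsAlgClosed K] [IsReduced (GK G K).left] [LocallyOfFiniteType (GK G K).hom]
    (y : K ⊗[k] (Fn G ⊗[k] Mq))
    (hy : ∀ g : Rat (GK G K),
      (TensorProduct.map (pfn (gk g)).toLinearMap (LinearMap.id : Mq →ₗ[k] Mq)).liftBaseChange K y = 0) : y = 0 := by
  classical
  let bM := Module.Basis.ofVectorSpace k Mq
  let e₁ := TensorProduct.equivFinsuppOfBasisRight (M := K ⊗[k] Fn G) bM
  let e₂ := TensorProduct.equivFinsuppOfBasisRight (M := K) bM
  let y' := (TensorProduct.assoc k K (Fn G) Mq).symm y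
  have key : ∀ (g : Rat (GK G K)) (w : K ⊗[k] (Fn G ⊗[k] Mq)) j,
      pfn g (tensorToGK G K (e₁ ((TensorProduct.assoc k K (Fn G) Mq).symm w) j)) =
        e₂ ((TensorProduct.map (pfn (gk g)).toLinearMap LinearMap.id).liftBaseChange K w) j := fun g w j => by
    induction w using TensorProduct.induction_on with
    | zero => simp
    | add s t hs ht => simp only [map_add, Finsupp.add_apply, hs, ht]
    | tmul c z =>
      induction z using TensorProduct.induction_on with
      | zero => simp
      | add s t hs ht => simp only [TensorProduct.tmul_add, map_add, Finsupp.add_apply, hs, ht]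
      | tmul a m =>
        rw [TensorProduct.assoc_symm_tmul, LinearMap.liftBaseChange_tmul, TensorProduct.map_tmul,
          TensorProduct.smul_tmul']
        simp only [e₁, e₂, TensorProduct.equivFinsuppOfBasisRight_apply_tmul_apply, LinearMap.id_apply]
        rw [← algebraMap_smul K (bM.repr m j), map_smul, map_smul, tensorToGK_tmul, map_mul, AlgHom.commutes,
          ← algebraMap_smul K (bM.repr m j) (c • (pfn (gk g)).toLinearMap a)]
        rfl
  have hy' : e₁ y' = 0 := Finsupp.ext fun j => (tensorToGK_bijective G K).1 (by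
    rw [Finsupp.zero_apply, map_zero]
    exact eq_zero_of_val _ fun g => by rw [key g y j, hy g, map_zero, Finsupp.zero_apply])
  have h0 : y' = 0 := e₁.injective (hy'.trans (map_zero _).symm)
  exact (TensorProduct.assoc k K (Fn G) Mq).symm.injective (h0.trans (map_zero _).symm)

theorem quot_subsingleton [IsAlgClosed K] [Smooth G.hom] [ConnectedSpace G.left]
    (hG : Red.HasNoSubtorus K (GK G K)) : Subsingleton Mq := by
  by_contra hne
  rw [not_subsingleton_iff_nontrivial] at hne
  haveI : Smooth (GK G K).hom := inferInstanceAs (Smooth (pullback.snd G.hom (σK (k := k) K)))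
  haveI : ConnectedSpace (GK G K).left := GrpSchLib.AntiAffine.connectedSpace_bc G (algebraMap k K)
  haveI := isReduced_grp (GK G K)
  haveI : Nontrivial (K ⊗[k] Mq) := Module.FaithfullyFlat.lTensor_nontrivial k K Mq
  obtain ⟨x, hx, hfix⟩ := Unip.exists_fixed hG (quotRep_regular (K := K) hΔ)
  let D : Mq →ₗ[k] Fn G ⊗[k] Mq := rho Δ - TensorProduct.mk k (Fn G) Mq 1
  have hDi : Function.Injective D := (injective_iff_map_eq_zero D).2 fun m hm =>
    rho_eq_tmul Δ (by simpa [D, sub_eq_zero] using hm)
  refine hx (Module.Flat.lTensor_preserves_injective_linearMap (M := K) D hDi ?_)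
  rw [map_zero]
  refine eq_zero_of_ract _ fun g => ?_
  have hfix' := hfix g⁻¹
  rw [quotRep_apply, _root_.inv_inv] at hfix'
  have key : ∀ z : K ⊗[k] Mq,
      (TensorProduct.map (pfn (gk g)).toLinearMap (LinearMap.id : Mq →ₗ[k] Mq)).liftBaseChange K (D.lTensor K z) =
        ract K (pfn (gk g)) z - z := fun z => by
    induction z using TensorProduct.induction_on with
    | zero => simp
    | add s t hs ht => simp only [map_add, hs, ht]; abel
    | tmul c m =>
      rw [LinearMap.lTensor_tmul, LinearMap.liftBaseChange_tmul, ract_tmul]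
      simp [D, map_sub, smul_sub, TensorProduct.smul_tmul']
  rw [key, hfix', sub_self]

end Representation

omit K in
/-- The filtration is exhaustive. -/
theorem filTop_eq_top {k : Type u} [Field k] {G : Over (Spec (CommRingCat.of k))} [GrpObj G] [IsAffine G.left]
    [Smooth G.hom] [ConnectedSpace G.left]
    (hG : ∀ s : ↥(Spec (CommRingCat.of k)),
      Red.HasNoSubtorus (AlgebraicClosure ((Spec (CommRingCat.of k)).residueField s)) (Red.geomFibre s G)) :
    filTop (comul G).toLinearMap = ⊤ := by
  have main : ∀ (K : Type u) [Field K] [IsAlgClosed K] (σ : Spec (CommRingCat.of K) ⟶ Spec (CommRingCat.of k)),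
      Red.HasNoSubtorus K (Red.bc σ G) → Subsingleton (Fn G ⧸ filTop (comul G).toLinearMap) := by
    intro K _ _ σ hK
    obtain ⟨ψ, rfl⟩ : ∃ ψ, σ = Spec.map ψ := ⟨_, (Spec.map_preimage σ).symm⟩
    letI : Algebra k K := ψ.hom.toAlgebra
    exact quot_subsingleton (K := K) (fun _ => rfl) hK
  have s : ↥(Spec (CommRingCat.of k)) := Classical.arbitrary (PrimeSpectrum k)
  have := main _ _ (hG s)
  exact Submodule.Quotient.subsingleton_iff.1 this

end Groth.Agent.NonAbLib.UnipExt
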