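import Groth.Agent.NonAbLib.UnipExt.Chart
import Groth.Agent.NonAbLib.UnipExt.Unip
import Groth.Agent.NonAbLib.UnipExt.Spectrum
import Groth.Agent.NonAbLib.RelTorsor
import Groth.Agent.Hartogs.Basic

/-!
# Flatness of the hull of a unipotent torsor across depth three
-/

set_option autoImplicit false
set_option linter.style.haveILetI false

universe u

open CategoryTheory CategoryTheory.Limits MonoidalCategory CartesianMonoidalCategory MonObj GrpObj AlgebraicGeometry
open TopologicalSpace

noncomputable section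

namespace Groth.Agent.NonAbLib.UnipExt

open GrpSchLib.Kunneth

variable {k : Type u} [Field k]

theorem nontrivial_fn (G : Over (Spec (CommRingCat.of k))) [GrpObj G] : Nontrivial (Fn G) :=
  (Obs28.pfn (1 : VecGrp.pt k k ⟶ G)).toRingHom.domain_nontrivial

/-- Properties over the open pass to restrictions inside it. -/
theorem restrict_of_comp {P : MorphismProperty Scheme.{u}} [IsZariskiLocalAtTarget P] {X S : Scheme.{u}}
    {U : S.Opens} (p : X ⟶ U) (hp : P p) {W : S.Opens} (hW : W ≤ U) : P ((p ≫ U.ι) ∣_ W) := by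
  haveI : IsIso (U.ι ∣_ W) := isIso_of_isOpenImmersion_of_opensRange_eq_top _ (by
    rw [← top_le_iff]
    intro x _
    refine ⟨⟨⟨(W.ι x), hW x.2⟩, x.2⟩, W.ι.isOpenEmbedding.injective ?_⟩
    rw [← Scheme.Hom.comp_apply, morphismRestrict_ι]
    rfl)
  rw [morphismRestrict_comp]
  exact (MorphismProperty.cancel_right_of_respectsIso P _ _).2 (IsZariskiLocalAtTarget.restrict hp _)

/-- The sections of a unipotent torsor over an open of depth three are faithfully flat on every affine open. -/
theorem flat_surjective_sections {S : Scheme.{u}} [IsLocallyNoetherian S] (s : S ⟶ Spec (CommRingCat.of k))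
    (U : S.Opens)
    (hdepth : ∀ z : S, z ∉ (U : Set S) → (3 : ℕ∞) ≤ LocCoh.depth (S.presheaf.stalk z) (S.presheaf.stalk z))
    (G : Over (Spec (CommRingCat.of k))) [GrpObj G] [IsAffine G.left] [Smooth G.hom] [ConnectedSpace G.left]
    (hGu : ∀ t : ↥(Spec (CommRingCat.of k)),
      Red.HasNoSubtorus (AlgebraicClosure ((Spec (CommRingCat.of k)).residueField t)) (Red.geomFibre t G))
    (X : Over (U : Scheme.{u})) (a : AlgGrp.Action (Red.bc U.ι (Red.bc s G)) X)
    (ha : NonAbH1.IsPseudoTorsorSch a) [IsAffineHom X.hom] [Flat X.hom] [Surjective X.hom]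
    {V : S.Opens} (hV : IsAffineOpen V) :
    Flat (Spec.map ((X.hom ≫ U.ι).app V)) ∧ Surjective (Spec.map ((X.hom ≫ U.ι).app V)) := by
  haveI : IsMonHom (ActBC.bcCompIso U.ι s G rfl).inv := inferInstance
  let R₀ := RightTorsor.ofAction (a.restrict (ActBC.bcCompIso U.ι s G rfl).inv)
    (Rel.isPseudoTorsor_restrict _ ha) U.ι s rfl
  let R := R₀.restrict V
  haveI : IsAffine V.toScheme := hV
  haveI : QuasiCompact U.ι := inferInstance
  haveI hqc : QuasiCompact R.P.hom := by
    rw [← R.hq]
    haveI : QuasiCompact R.q := IsZariskiLocalAtTarget.restrict (P := @QuasiCompact)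
      (inferInstanceAs (QuasiCompact (X.hom ≫ U.ι))) V
    exact MorphismProperty.comp_mem _ _ _ ‹QuasiCompact R.q› inferInstance
  haveI hsep : IsSeparated R.P.hom := by
    rw [← R.hq]
    haveI : IsSeparated R.q := IsZariskiLocalAtTarget.restrict (P := @IsSeparated)
      (inferInstanceAs (IsSeparated (X.hom ≫ U.ι))) V
    exact MorphismProperty.comp_mem _ _ _ ‹IsSeparated R.q› inferInstance
  haveI := nontrivial_fn G
  obtain ⟨κ, hκ, b, deg, hb⟩ := exists_triangular (comul G).toLinearMap (filTop_eq_top hGu)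
  let U' : V.toScheme.Opens := V.ι ⁻¹ᵁ U
  haveI : QuasiCompact U'.ι := inferInstance
  obtain ⟨J, hJ, g, hgU, hgcov⟩ := Extend.exists_family U' (isAffineOpen_top V.toScheme)
  haveI := hJ
  haveI : IsNoetherianRing Γ(V.toScheme, ⊤) :=
    IsLocallyNoetherian.component_noetherian ⟨⊤, isAffineOpen_top V.toScheme⟩
  have hdeep : Deep g := deep_of_depth g fun p hp => by
    let hT := isAffineOpen_top V.toScheme
    let y := hT.fromSpec p
    have hyU : y ∉ U' := fun h => by
      obtain ⟨i, hi⟩ := hgcov y h trivial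
      have hi' : p ∈ hT.fromSpec ⁻¹ᵁ V.toScheme.basicOpen (g i) := hi
      rw [hT.fromSpec_preimage_basicOpen] at hi'
      exact hi' (hp i)
    have hp' : hT.primeIdealOf ⟨y, trivial⟩ = p :=
      hT.fromSpec.isOpenEmbedding.injective (hT.fromSpec_primeIdealOf ⟨y, trivial⟩)
    let σ := (V.stalkIso y).commRingCatIsoToRingEquiv
    have hd : LocCoh.depth (V.toScheme.presheaf.stalk y) (V.toScheme.presheaf.stalk y) =
        LocCoh.depth (S.presheaf.stalk y.1) (S.presheaf.stalk y.1) :=
      Alg6.depth_eq_of_semilinear σ.toRingHom σ.surjective σ.toAddEquiv (fun r z => map_mul σ r z)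
    have h3 := ((hdepth y.1 hyU).trans hd.ge).trans (Hartogs.depth_stalk_eq hT y trivial).ge
    rwa [hp'] at h3
  have hR : ∀ i, V.ι ''ᵁ V.toScheme.basicOpen (g i) ≤ U := fun i => by
    rintro _ ⟨y, hy, rfl⟩
    exact hgU i hy
  have tr : ∀ {P : MorphismProperty Scheme.{u}} [IsZariskiLocalAtTarget P], P X.hom →
      ∀ i, P (R.q ∣_ V.toScheme.basicOpen (g i)) := fun {P} _ hP i => by
    show P (((X.hom ≫ U.ι) ∣_ V) ∣_ V.toScheme.basicOpen (g i))
    rw [P.arrow_mk_iso_iff (morphismRestrictRestrict (X.hom ≫ U.ι) V (V.toScheme.basicOpen (g i)))]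
    exact restrict_of_comp X.hom hP (hR i)
  have hcov : ∀ y, ∃ i, R.q y ∈ V.toScheme.basicOpen (g i) := fun y => by
    refine hgcov _ ?_ trivial
    show V.ι (R.q y) ∈ U
    have e : R.q ≫ V.ι = (R₀.q ⁻¹ᵁ V).ι ≫ X.hom ≫ U.ι := morphismRestrict_ι R₀.q V
    rw [← Scheme.Hom.comp_apply, e]
    exact (X.hom ((R₀.q ⁻¹ᵁ V).ι y)).2
  exact flat_surjective_app (X.hom ≫ U.ι) V
    (faithfullyFlat_appTop R b g deg hb hdeep hcov (tr (P := @Flat) inferInstance) (tr (P := @Surjective) inferInstance)
      (tr (P := @IsAffineHom) inferInstance))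

end Groth.Agent.NonAbLib.UnipExt
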