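import Groth.Agent.NonAbLib.UnipExt.Cech
import Mathlib.RingTheory.Flat.FaithfullyFlat.Basic
import Mathlib.LinearAlgebra.DirectSum.Finsupp
import Mathlib.LinearAlgebra.TensorProduct.Basis
import Mathlib.LinearAlgebra.FreeModule.Basic
import Mathlib.RingTheory.TensorProduct.Maps

/-!
# Algebras with a unipotent coaction

`H` has a basis `b` with degrees and functionals `q`, triangular for the basis; a coaction `δ` with
`δ (c β x) = (1 ⊗ q β) (δ x)`, `c β` the coordinates of `δ`, which is locally a torsor makes the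
algebra free, if one-cocycles of the base are coboundaries.
-/

set_option autoImplicit false

universe u

open TensorProduct Algebra.TensorProduct
open scoped Classical

noncomputable section

namespace Groth.Agent.NonAbLib.UnipExt

variable {k : Type u} [Field k] {H : Type u} [CommRing H] [Algebra k H] {κ : Type u}
  (b : Module.Basis κ k H)

section Coordinates

variable (B : Type u) [CommRing B] [Algebra k B]

/-- The coordinates in `B ⊗ H`. -/
def cs : B ⊗[k] H ≃ₗ[B] (κ →₀ B) :=
  TensorProduct.AlgebraTensorModule.congr (LinearEquiv.refl B B) b.repr ≪≫ₗ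
    TensorProduct.finsuppScalarRight k B B κ

variable {B}

theorem cs_tmul (x : B) (h : H) (γ : κ) : cs b B (x ⊗ₜ[k] h) γ = b.repr h γ • x := by
  simp [cs, TensorProduct.finsuppScalarRight_apply_tmul_apply]

theorem sum_cs (z : B ⊗[k] H) : z = (cs b B z).sum fun γ x => x ⊗ₜ[k] b γ := by
  induction z using TensorProduct.induction_on with
  | zero => simp
  | tmul x h =>
    have e : cs b B (x ⊗ₜ[k] h) = (b.repr h).mapRange (fun r => r • x) (zero_smul k x) :=
      Finsupp.ext fun γ => by rw [cs_tmul, Finsupp.mapRange_apply]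
    rw [e, Finsupp.sum_mapRange_index (h := fun γ x => x ⊗ₜ[k] b γ) (fun _ => TensorProduct.zero_tmul _ _)]
    conv_lhs => rw [← b.linearCombination_repr h, Finsupp.linearCombination_apply, Finsupp.sum,
      TensorProduct.tmul_sum]
    exact Finset.sum_congr rfl fun γ _ => (TensorProduct.smul_tmul _ _ _).symm
  | add z w hz hw =>
    conv_lhs => rw [hz, hw]
    rw [map_add, Finsupp.sum_add_index' (h := fun γ x => x ⊗ₜ[k] b γ) (fun _ => TensorProduct.zero_tmul _ _)
      (fun _ _ _ => TensorProduct.add_tmul _ _ _)]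

end Coordinates

variable {A B : Type u} [CommRing A] [Algebra k A] [CommRing B] [Algebra k B] [Algebra A B]
  [IsScalarTower k A B]
  (deg : κ → ℕ) (q : κ → (H →ₗ[k] H)) (δ : B →ₐ[A] B ⊗[k] H)

/-- The coordinates of the coaction. -/
def c (γ : κ) : B →ₗ[A] B :=
  ((Finsupp.lapply γ).comp (cs b B).toLinearMap).restrictScalars A ∘ₗ δ.toLinearMap

theorem c_apply (γ : κ) (x : B) : c b δ γ x = cs b B (δ x) γ := rfl

/-- The triangularity of the basis. -/
def Triangular : Prop :=
  ∀ α β, deg α ≤ deg β → (α = β → q β (b α) = 1) ∧ (α ≠ β → q β (b α) = 0)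

/-- The coaction is compatible with the functionals. -/
def Coass : Prop :=
  ∀ β x, δ (c b δ β x) = (q β).lTensor B (δ x)

variable {b deg q δ}

theorem coord_invariant (hq : Triangular b deg q) (hco : Coass b q δ) {β : κ} {x : B}
    (hx : ∀ α, deg β < deg α → c b δ α x = 0) : δ (c b δ β x) = c b δ β x ⊗ₜ[k] 1 := by
  classical
  rw [hco]
  conv_lhs => rw [sum_cs b (δ x)]
  rw [map_finsuppSum, Finsupp.sum, Finset.sum_eq_single β]
  · rw [LinearMap.lTensor_tmul, (hq β β le_rfl).1 rfl]
    rfl
  · intro α hα hne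
    rcases le_or_gt (deg α) (deg β) with h | h
    · rw [LinearMap.lTensor_tmul, (hq α β h).2 hne, TensorProduct.tmul_zero]
    · exact absurd (hx α h) (Finsupp.mem_support_iff.1 hα)
  · intro hβ
    rw [LinearMap.lTensor_tmul, Finsupp.notMem_support_iff.1 hβ, TensorProduct.zero_tmul]

/-! ### The local statements -/

variable (δ) in
/-- The shear. -/
def shear : B ⊗[A] B →ₐ[A] B ⊗[k] H :=
  Algebra.TensorProduct.productMap
    ((Algebra.TensorProduct.includeLeft : B →ₐ[B] B ⊗[k] H).restrictScalars A) δ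

theorem shear_tmul (x y : B) : shear δ (x ⊗ₜ[A] y) = x • δ y := by
  rw [shear, Algebra.TensorProduct.productMap_apply_tmul, Algebra.smul_def]
  rfl

theorem exists_algebraMap_eq_of_invariant [Module.FaithfullyFlat A B] (hΘ : Function.Injective (shear δ))
    {x : B} (hx : δ x = x ⊗ₜ[k] 1) : ∃ a : A, algebraMap A B a = x := by
  have h1 : (1 : B) ⊗ₜ[A] x = x ⊗ₜ[A] (1 : B) := hΘ (by
    rw [shear_tmul, shear_tmul, one_smul, hx, map_one, Algebra.TensorProduct.one_def, TensorProduct.smul_tmul',
      smul_eq_mul, mul_one])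
  let W : Submodule A B := LinearMap.range (Algebra.linearMap A B)
  have h2 := congrArg (W.mkQ.lTensor B) h1
  have h0 : W.mkQ (1 : B) = 0 := (Submodule.Quotient.mk_eq_zero W).2 ⟨1, by simp⟩
  rw [LinearMap.lTensor_tmul, LinearMap.lTensor_tmul, h0, TensorProduct.tmul_zero] at h2
  have h3 : W.mkQ x = 0 := Module.FaithfullyFlat.tensorProduct_mk_injective (A := A) (B := B) (B ⧸ W)
    (h2.trans (TensorProduct.tmul_zero _ _).symm)
  exact (Submodule.Quotient.mk_eq_zero W).1 h3

variable (deg) in
/-- `x` lifts the basis vector `α` in degree `n`, up to `r`. -/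
def IsLift (δ : B →ₐ[A] B ⊗[k] H) (b : Module.Basis κ k H) (n : ℕ) (α : κ) (r : B) (x : B) : Prop :=
  ∀ γ, n ≤ deg γ → (γ = α → c b δ γ x = r) ∧ (γ ≠ α → c b δ γ x = 0)

theorem exists_isLift_of_torsor [Module.FaithfullyFlat A B] (hq : Triangular b deg q) (hco : Coass b q δ)
    (hΘ : Function.Bijective (shear δ)) (α : κ) : ∃ x, IsLift deg δ b (deg α) α 1 x := by
  classical
  obtain ⟨z, hz⟩ := hΘ.2 ((1 : B) ⊗ₜ[k] b α)
  let κ' := {γ : κ // deg α ≤ deg γ}
  let T : B →ₗ[A] (κ' →₀ B) :=
    ((Finsupp.lsubtypeDomain {γ | deg α ≤ deg γ}).comp (cs b B).toLinearMap).restrictScalars A ∘ₗ δ.toLinearMap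
  let e : κ' →₀ B := Finsupp.single ⟨α, le_rfl⟩ 1
  have hT : ∀ (γ : κ') x, T x γ = c b δ γ.1 x := fun γ x => rfl
  -- the coordinates of the lifted shear
  have hc : ∀ (γ : κ) (w : B ⊗[A] B), shear δ ((c b δ γ).lTensor B w) = (q γ).lTensor B (shear δ w) := by
    intro γ w
    induction w using TensorProduct.induction_on with
    | zero => simp
    | tmul x y =>
      rw [LinearMap.lTensor_tmul, shear_tmul, shear_tmul, hco]
      induction δ y using TensorProduct.induction_on with
      | zero => simp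
      | tmul u v => simp [TensorProduct.smul_tmul']
      | add u v hu hv => rw [smul_add, map_add, map_add, smul_add, hu, hv]
    | add u v hu hv => simp only [map_add, hu, hv]
  have key : T.lTensor B z = (1 : B) ⊗ₜ[A] e := by
    apply (TensorProduct.finsuppRight A A B B κ').injective
    refine Finsupp.ext fun γ => ?_
    have hcomp : ∀ w : B ⊗[A] B,
        TensorProduct.finsuppRight A A B B κ' (T.lTensor B w) γ = (c b δ γ.1).lTensor B w := fun w => by
      induction w using TensorProduct.induction_on with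
      | zero => simp
      | tmul x y => rw [LinearMap.lTensor_tmul, TensorProduct.finsuppRight_apply_tmul_apply, hT]; rfl
      | add u v hu hv => simp only [map_add, Finsupp.add_apply, hu, hv]
    rw [hcomp, TensorProduct.finsuppRight_apply_tmul_apply]
    apply hΘ.1
    rw [hc, hz, LinearMap.lTensor_tmul]
    by_cases h : γ = ⟨α, le_rfl⟩
    · subst h
      rw [Finsupp.single_eq_same, shear_tmul, map_one, one_smul, (hq α α le_rfl).1 rfl]
      rfl
    · rw [Finsupp.single_eq_of_ne h, TensorProduct.tmul_zero, map_zero,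
        (hq α γ.1 γ.2).2 fun hh => h (Subtype.ext hh.symm), TensorProduct.tmul_zero]
  let W : Submodule A (κ' →₀ B) := LinearMap.range T
  have h2 := congrArg (W.mkQ.lTensor B) key
  have h0 : W.mkQ ∘ₗ T = 0 :=
    LinearMap.ext fun x => (Submodule.Quotient.mk_eq_zero W).2 ⟨x, rfl⟩
  rw [← LinearMap.lTensor_comp_apply, h0, LinearMap.lTensor_zero, LinearMap.zero_apply, LinearMap.lTensor_tmul] at h2
  have h3 : W.mkQ e = 0 := Module.FaithfullyFlat.tensorProduct_mk_injective (A := A) (B := B) (_ ⧸ W)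
    (h2.symm.trans (TensorProduct.tmul_zero _ _).symm)
  obtain ⟨x, hx⟩ := (Submodule.Quotient.mk_eq_zero W).1 h3
  refine ⟨x, fun γ hγ => ⟨fun h => ?_, fun h => ?_⟩⟩
  · subst h
    rw [← hT ⟨γ, hγ⟩, hx, Finsupp.single_eq_same]
  · rw [← hT ⟨γ, hγ⟩, hx, Finsupp.single_eq_of_ne fun hh => h (congrArg Subtype.val hh)]

/-! ### The global statement -/

variable {ι : Type u} {g : ι → A}

open Extend

/-- The elements of degree less than `n`. -/
def F (b : Module.Basis κ k H) (deg : κ → ℕ) (δ : B →ₐ[A] B ⊗[k] H) (n : ℕ) : Submodule A B :=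
  ⨅ γ : {γ // n ≤ deg γ}, LinearMap.ker (c b δ γ.1)

theorem mem_F {n : ℕ} {x : B} : x ∈ F b deg δ n ↔ ∀ γ, n ≤ deg γ → c b δ γ x = 0 := by
  simp [F]

theorem eq_algebraMap_of_invariant [Finite ι] (hA : GLoc g A) (hB : GLoc g B)
    (hker : ∀ i a, algebraMap A B a = 0 → ∃ N : ℕ, g i ^ N * a = 0)
    (hinv : ∀ i x, δ x = x ⊗ₜ[k] 1 → ∃ (N : ℕ) (a : A), g i ^ N • x = algebraMap A B a)
    {x : B} (hx : δ x = x ⊗ₜ[k] 1) : ∃ a, algebraMap A B a = x := by
  classical
  cases nonempty_fintype ι
  choose N a ha using fun i => hinv i x hx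
  have hz : ∀ a, algebraMap A B a = 0 → a = 0 := fun a h => hA.inj a fun i => hker i a h
  obtain ⟨a₀, ha₀⟩ := hA.glue' N a fun i j => sub_eq_zero.1 (hz _ (by
    rw [map_sub, smul_eq_mul, smul_eq_mul, map_mul, map_mul, map_pow, map_pow, ← ha, ← ha,
      Algebra.smul_def, Algebra.smul_def, map_pow, map_pow, sub_eq_zero, mul_left_comm]))
  refine ⟨a₀, hB.ext fun i => ⟨N i, ?_⟩⟩
  rw [ha, ← ha₀ i, smul_eq_mul, map_mul, ← Algebra.smul_def]

theorem isLift_smul {n : ℕ} {α : κ} {r x : B} (h : IsLift deg δ b n α r x) (a : A) :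
    IsLift deg δ b n α (a • r) (a • x) := fun γ hγ =>
  ⟨fun e => by rw [map_smul, (h γ hγ).1 e], fun e => by rw [map_smul, (h γ hγ).2 e, smul_zero]⟩

section Global

variable (bb : κ → B)

theorem exists_mem_F (x : B) : ∃ n, x ∈ F b deg δ n := by
  classical
  refine ⟨(cs b B (δ x)).support.sup deg + 1, mem_F.2 fun γ hγ => ?_⟩
  by_contra h
  have h' : γ ∈ (cs b B (δ x)).support := Finsupp.mem_support_iff.2 h
  have := Finset.le_sup (f := deg) h'
  omega

theorem F_le_span (hδ : Function.Injective δ) (hq : Triangular b deg q) (hco : Coass b q δ)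
    (hI : ∀ x, δ x = x ⊗ₜ[k] 1 → ∃ a, algebraMap A B a = x) :
    ∀ n, (∀ α, deg α < n → IsLift deg δ b (deg α) α 1 (bb α)) →
      F b deg δ n ≤ Submodule.span A (bb '' {α | deg α < n}) := by
  classical
  intro n
  induction n with
  | zero =>
    intro _ x hx
    have : δ x = 0 := (cs b B).injective (by
      rw [map_zero]; exact Finsupp.ext fun γ => mem_F.1 hx γ (Nat.zero_le _))
    rw [hδ (this.trans (map_zero δ).symm)]
    exact zero_mem _
  | succ n ih =>
    intro hbb x hx
    have htop : ∀ α, deg α = n → ∃ a, algebraMap A B a = c b δ α x := fun α hα =>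
      hI _ (coord_invariant hq hco fun β hβ => mem_F.1 hx β (by omega))
    choose! a ha using htop
    let s : Finset κ := (cs b B (δ x)).support.filter fun α => deg α = n
    have hs : ∀ α ∈ s, deg α = n := fun α h => (Finset.mem_filter.1 h).2
    let y := ∑ α ∈ s, a α • bb α
    have hy : y ∈ Submodule.span A (bb '' {α | deg α < n + 1}) :=
      Submodule.sum_mem _ fun α hα => Submodule.smul_mem _ _
        (Submodule.subset_span ⟨α, by show deg α < n + 1; rw [hs α hα]; exact Nat.lt_succ_self n, rfl⟩)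
    have hxy : x - y ∈ F b deg δ n := mem_F.2 fun γ hγ => by
      rw [map_sub, map_sum]
      have hterm : ∀ α ∈ s, α ≠ γ → c b δ γ (a α • bb α) = 0 := fun α hα hne => by
        rw [map_smul, (hbb α (by rw [hs α hα]; omega) γ (by rw [hs α hα]; exact hγ)).2 hne.symm, smul_zero]
      by_cases hγs : γ ∈ s
      · rw [Finset.sum_eq_single γ hterm (fun h => absurd hγs h), map_smul,
          (hbb γ (by rw [hs γ hγs]; omega) γ le_rfl).1 rfl, ← Algebra.algebraMap_eq_smul_one, ha γ (hs γ hγs), sub_self]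
      · rw [Finset.sum_eq_zero fun α hα => hterm α hα fun h => hγs (h ▸ hα), sub_zero]
        by_contra h
        rcases hγ.lt_or_eq with h' | h'
        · exact h (mem_F.1 hx γ h')
        · exact hγs (Finset.mem_filter.2 ⟨Finsupp.mem_support_iff.2 h, h'.symm⟩)
    have h1 := Submodule.span_mono (Set.image_mono fun α (h : deg α < n) => show deg α < n + 1 by omega)
      (ih (fun α hα => hbb α (by omega)) hxy)
    have h2 := add_mem h1 hy
    rwa [sub_add_cancel] at h2

theorem eq_zero_of_linearCombination (hz : ∀ a, algebraMap A B a = 0 → a = 0) {s : Set κ}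
    (hbb : ∀ α ∈ s, IsLift deg δ b (deg α) α 1 (bb α)) (l : κ →₀ A) (hl : ↑l.support ⊆ s)
    (h : Finsupp.linearCombination A bb l = 0) : l = 0 := by
  classical
  by_contra hne
  obtain ⟨α, hα, hmax⟩ := l.support.exists_max_image deg (Finsupp.support_nonempty_iff.2 hne)
  have h1 := congrArg (c b δ α) h
  rw [Finsupp.linearCombination_apply, Finsupp.sum, map_sum, map_zero,
    Finset.sum_eq_single α (fun β hβ hne => by rw [map_smul, (hbb β (hl hβ) α (hmax β hβ)).2 hne.symm, smul_zero])
      (fun h => absurd hα h),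
    map_smul, (hbb α (hl hα) α le_rfl).1 rfl, ← Algebra.algebraMap_eq_smul_one] at h1
  exact Finsupp.mem_support_iff.1 hα (hz _ h1)

end Global

theorem exists_lifts [Finite ι] (hA : Deep g) (hB : GLoc g B) (hδ : Function.Injective δ)
    (hq : Triangular b deg q) (hco : Coass b q δ)
    (hker : ∀ i a, algebraMap A B a = 0 → ∃ N : ℕ, g i ^ N * a = 0)
    (hinv : ∀ i x, δ x = x ⊗ₜ[k] 1 → ∃ (N : ℕ) (a : A), g i ^ N • x = algebraMap A B a)
    (hex : ∀ i α, ∃ (N : ℕ) (x : B), IsLift deg δ b (deg α) α (algebraMap A B (g i ^ N)) x) :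
    ∀ α, ∃ x, IsLift deg δ b (deg α) α 1 x := by
  classical
  cases nonempty_fintype ι
  have hz : ∀ a, algebraMap A B a = 0 → a = 0 := fun a h => hA.gloc.inj a fun i => hker i a h
  intro α
  induction hn : deg α using Nat.strong_induction_on generalizing α with
  | _ n ih =>
  subst hn
  have ih' : ∀ β, deg β < deg α → ∃ x, IsLift deg δ b (deg β) β 1 x := fun β hβ => ih _ hβ β rfl
  choose! bb hbb using ih'
  have hspan := F_le_span bb hδ hq hco
    (fun x hx => eq_algebraMap_of_invariant hA.gloc hB hker hinv hx) (deg α) hbb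
  let s : Set κ := {β | deg β < deg α}
  choose N' x' hx' using fun i => hex i α
  let N := Finset.univ.sup N'
  have hN : ∀ i, N' i ≤ N := fun i => Finset.le_sup (Finset.mem_univ i)
  let x : ι → B := fun i => g i ^ (N - N' i) • x' i
  have hx : ∀ i, IsLift deg δ b (deg α) α (g i ^ N • (1 : B)) (x i) := fun i => by
    have h := isLift_smul (hx' i) (g i ^ (N - N' i))
    rwa [Algebra.algebraMap_eq_smul_one, smul_smul, ← pow_add, Nat.sub_add_cancel (hN i)] at h
  have hw : ∀ i j, g j ^ N • x i - g i ^ N • x j ∈ F b deg δ (deg α) := fun i j => mem_F.2 fun γ hγ => by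
    rw [map_sub, LinearMap.map_smul (c b δ γ) (g j ^ N), LinearMap.map_smul (c b δ γ) (g i ^ N)]
    by_cases h : γ = α
    · rw [(hx i γ hγ).1 h, (hx j γ hγ).1 h, smul_comm, sub_self]
    · rw [(hx i γ hγ).2 h, (hx j γ hγ).2 h, smul_zero, smul_zero, sub_self]
  choose l hl hlw using fun i j => (Finsupp.mem_span_image_iff_linearCombination A).1 (hspan (hw i j))
  have hco1 : ∀ i j m, g m ^ N • l i j + g i ^ N • l j m = g j ^ N • l i m := fun i j m => by
    refine sub_eq_zero.1 (eq_zero_of_linearCombination bb hz hbb _ ?_ ?_)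
    · exact (Finsupp.mem_supported A _).1 (sub_mem
        (add_mem (Submodule.smul_mem _ _ (hl i j)) (Submodule.smul_mem _ _ (hl j m)))
        (Submodule.smul_mem _ _ (hl i m)))
    · rw [map_sub, map_add, map_smul, map_smul, map_smul, hlw, hlw, hlw]
      simp only [smul_sub, smul_smul, mul_comm (g m ^ N), mul_comm (g i ^ N) (g j ^ N)]
      abel
  choose e he using fun β => hA.exists_coboundary N (fun i j => l i j β) fun i j m => by
    have h := DFunLike.congr_fun (hco1 i j m) β
    simpa [Finsupp.add_apply, Finsupp.smul_apply, smul_eq_mul] using h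
  let U : Finset κ := Finset.univ.biUnion fun p : ι × ι => (l p.1 p.2).support
  let E : ι → (κ →₀ A) := fun i => Finsupp.onFinset U (fun β => if β ∈ U then e β i else 0)
    fun β h => by by_contra hh; exact h (if_neg hh)
  have hE : ∀ i j, l i j = g j ^ N • E i - g i ^ N • E j := fun i j => Finsupp.ext fun β => by
    simp only [E, Finsupp.sub_apply, Finsupp.smul_apply, Finsupp.onFinset_apply, smul_eq_mul]
    by_cases h : β ∈ U
    · rw [if_pos h, if_pos h]; exact he β i j
    · rw [if_neg h, if_neg h, mul_zero, mul_zero, sub_zero]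
      exact Finsupp.notMem_support_iff.1 fun hh => h (Finset.mem_biUnion.2 ⟨(i, j), Finset.mem_univ _, hh⟩)
  have hEs : ∀ i, ↑(E i).support ⊆ s := fun i β hβ => by
    have hβU : β ∈ U := Finsupp.support_onFinset_subset hβ
    obtain ⟨p, -, hp⟩ := Finset.mem_biUnion.1 hβU
    exact (Finsupp.mem_supported A _).1 (hl p.1 p.2) hp
  let y : ι → B := fun i => x i - Finsupp.linearCombination A bb (E i)
  have hy : ∀ i, IsLift deg δ b (deg α) α (g i ^ N • (1 : B)) (y i) := fun i γ hγ => by
    have h0 : c b δ γ (Finsupp.linearCombination A bb (E i)) = 0 := by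
      rw [Finsupp.linearCombination_apply, Finsupp.sum, map_sum]
      refine Finset.sum_eq_zero fun β hβ => ?_
      have hlt : deg β < deg α := hEs i hβ
      rw [map_smul, (hbb β hlt γ (by omega)).2 (fun h => by subst h; omega), smul_zero]
    rw [map_sub, h0, sub_zero]
    exact hx i γ hγ
  obtain ⟨z, hz'⟩ := hB.glue N y fun i j => by
    simp only [y, smul_sub]
    rw [sub_eq_sub_iff_sub_eq_sub, ← hlw, hE, map_sub, map_smul, map_smul]
  refine ⟨z, fun γ hγ => ⟨fun h => hB.ext fun i => ⟨N, ?_⟩, fun h => hB.inj _ fun i => ⟨N, ?_⟩⟩⟩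
  · rw [← map_smul, hz', (hy i γ hγ).1 h]
  · rw [← map_smul, hz', (hy i γ hγ).2 h]

/-- The algebra is faithfully flat, indeed free. -/
theorem free_of_coaction [Finite ι] [Nonempty κ] (hA : Deep g) (hB : GLoc g B) (hδ : Function.Injective δ)
    (hq : Triangular b deg q) (hco : Coass b q δ)
    (hker : ∀ i a, algebraMap A B a = 0 → ∃ N : ℕ, g i ^ N * a = 0)
    (hinv : ∀ i x, δ x = x ⊗ₜ[k] 1 → ∃ (N : ℕ) (a : A), g i ^ N • x = algebraMap A B a)
    (hex : ∀ i α, ∃ (N : ℕ) (x : B), IsLift deg δ b (deg α) α (algebraMap A B (g i ^ N)) x) :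
    Module.Free A B ∧ Module.FaithfullyFlat A B := by
  classical
  choose bb hbb using exists_lifts hA hB hδ hq hco hker hinv hex
  have hz : ∀ a, algebraMap A B a = 0 → a = 0 := fun a h => hA.gloc.inj a fun i => hker i a h
  have hli : LinearIndependent A bb := linearIndependent_iff.2 fun l hl =>
    eq_zero_of_linearCombination bb hz (s := Set.univ) (fun α _ => hbb α) l (Set.subset_univ _) hl
  have hsp : ⊤ ≤ Submodule.span A (Set.range bb) := fun x _ => by
    obtain ⟨n, hn⟩ := exists_mem_F (b := b) (deg := deg) (δ := δ) x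
    exact Submodule.span_mono (Set.image_subset_range _ _)
      (F_le_span bb hδ hq hco (fun x hx => eq_algebraMap_of_invariant hA.gloc hB hker hinv hx) n
        (fun α _ => hbb α) hn)
  let bas := Module.Basis.mk hli hsp
  exact ⟨Module.Free.of_basis bas, Module.FaithfullyFlat.of_linearEquiv _ _ bas.repr⟩

end Groth.Agent.NonAbLib.UnipExt
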