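import Groth.Agent.Alg6.AssDepth
import Groth.Agent.CAlgOdd.HartogsTwo
import Mathlib.CategoryTheory.Monoidal.Cartesian.Over
import Mathlib.AlgebraicGeometry.Morphisms.Flat
import Mathlib.RingTheory.Regular.Flat

/-!
# Restriction to an open whose complement has depth two is fully faithful

Morphisms from flat schemes to affine schemes over `X` are the same as morphisms over the open.
-/

set_option autoImplicit false
set_option linter.style.haveILetI false

universe u

open CategoryTheory CategoryTheory.Limits AlgebraicGeometry TopologicalSpace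

noncomputable section

namespace Groth.Agent.NonAbLib.UnipExt

variable {X : Scheme.{u}}

/-- A weakly regular pair at every point outside the open. -/
def Depth2Outside (U : X.Opens) : Prop :=
  ∀ z : X, z ∉ U → ∃ a b : X.presheaf.stalk z, a ∈ IsLocalRing.maximalIdeal (X.presheaf.stalk z) ∧
    b ∈ IsLocalRing.maximalIdeal (X.presheaf.stalk z) ∧ RingTheory.Sequence.IsWeaklyRegular (X.presheaf.stalk z) [a, b]

/-- Depth gives regular pairs. -/
theorem depth2Outside_of_depth [IsLocallyNoetherian X] (U : X.Opens)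
    (h : ∀ z : X, z ∉ U → (2 : ℕ∞) ≤ LocCoh.depth (X.presheaf.stalk z) (X.presheaf.stalk z)) : Depth2Outside U := by
  intro z hz
  obtain ⟨rs, hrs, hmem, hlen⟩ :=
    Alg6.exists_length_ge_of_le_idealDepth (Alg6.maximal_smul_top_ne_top) (h z hz)
  match rs, hlen, hmem, hrs with
  | a :: b :: t, _, hmem, hrs =>
    rw [RingTheory.Sequence.isWeaklyRegular_cons_iff, RingTheory.Sequence.isWeaklyRegular_cons_iff] at hrs
    refine ⟨a, b, hmem a (by simp), hmem b (by simp), ?_⟩
    rw [RingTheory.Sequence.isWeaklyRegular_cons_iff, RingTheory.Sequence.isWeaklyRegular_cons_iff]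
    exact ⟨hrs.1, hrs.2.1, RingTheory.Sequence.IsWeaklyRegular.nil _ _⟩
  | [], hlen, _, _ => exact absurd hlen (by simp)
  | [_], hlen, _, _ => exact absurd hlen (by simp)

/-- Regular pairs pull back along flat morphisms. -/
theorem reg2_of_flat {Z : Scheme.{u}} (f : Z ⟶ X) [Flat f] {U : X.Opens} (hU : Depth2Outside U)
    (z : Z) (hz : z ∉ f ⁻¹ᵁ U) : CAlgOdd.HartogsTwo.Reg2 (Z.presheaf.stalk z) := by
  obtain ⟨a, b, ha, hb, hab⟩ := hU (f z) hz
  let := (f.stalkMap z).hom.toAlgebra
  have : Module.Flat (X.presheaf.stalk (f z)) (Z.presheaf.stalk z) := Flat.stalkMap f z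
  have hloc : IsLocalHom (f.stalkMap z).hom := inferInstance
  exact CAlgOdd.HartogsTwo.reg2_of_isWeaklyRegular (fun h => ha (hloc.map_nonunit a h)) (fun h => hb (hloc.map_nonunit b h))
    hab.of_flat

variable {U : X.Opens} {Z Y : Over X}

/-- The open of `Z` over `U`, as a scheme over the fibre product. -/
def toPullback (Z : Over X) (U : X.Opens) : (Z.hom ⁻¹ᵁ U).toScheme ⟶ pullback Z.hom U.ι :=
  pullback.lift (Z.hom ⁻¹ᵁ U).ι (Z.hom ∣_ U) (morphismRestrict_ι Z.hom U).symm

theorem pullback_map_fst (h : Z ⟶ Y) (U : X.Opens) :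
    ((Over.pullback U.ι).map h).left ≫ pullback.fst Y.hom U.ι = pullback.fst Z.hom U.ι ≫ h.left :=
  pullback.lift_fst _ _ _

/-- Agreement on the open determines a morphism. -/
theorem pullback_map_injective [Flat Z.hom] [IsAffineHom Y.hom] (hU : Depth2Outside U) {u v : Z ⟶ Y}
    (h : (Over.pullback U.ι).map u = (Over.pullback U.ι).map v) : u = v := by
  refine Over.OverMorphism.ext (CAlgOdd.HartogsTwo.eq_of_eq (Z.hom ⁻¹ᵁ U) (reg2_of_flat Z.hom hU)
    Y.hom ((Over.w u).trans (Over.w v).symm) ?_)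
  have h' := congrArg (fun m => toPullback Z U ≫ m.left ≫ pullback.fst Y.hom U.ι) h
  simp only [pullback_map_fst, toPullback] at h'
  rwa [pullback.lift_fst_assoc, pullback.lift_fst_assoc] at h'

/-- Morphisms over the open extend. -/
theorem pullback_map_surjective [Flat Z.hom] [IsAffineHom Y.hom] [QuasiCompact U.ι] (hU : Depth2Outside U)
    (c : (Over.pullback U.ι).obj Z ⟶ (Over.pullback U.ι).obj Y) : ∃ a, (Over.pullback U.ι).map a = c := by
  let U₁ : Z.left.Opens := Z.hom ⁻¹ᵁ U
  have : QuasiCompact U₁.ι :=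
    MorphismProperty.of_isPullback (isPullback_morphismRestrict Z.hom U) (inferInstanceAs (QuasiCompact U.ι))
  let l : (U₁ : Scheme.{u}) ⟶ pullback Z.hom U.ι :=
    pullback.lift U₁.ι (Z.hom ∣_ U) (morphismRestrict_ι Z.hom U).symm
  let r : pullback Z.hom U.ι ⟶ (U₁ : Scheme.{u}) :=
    IsOpenImmersion.lift U₁.ι (pullback.fst Z.hom U.ι) (by
      rw [Scheme.Opens.range_ι, Scheme.Pullback.range_fst, Scheme.Opens.range_ι]
      rfl)
  have hr : r ≫ U₁.ι = pullback.fst Z.hom U.ι := IsOpenImmersion.lift_fac _ _ _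
  have hrl : r ≫ l = 𝟙 _ := by
    refine pullback.hom_ext ?_ ?_
    · rw [Category.assoc, pullback.lift_fst, hr, Category.id_comp]
    · rw [Category.assoc, pullback.lift_snd, ← cancel_mono U.ι, Category.assoc, morphismRestrict_ι,
        ← Category.assoc, hr, pullback.condition, Category.id_comp]
  let m : pullback Z.hom U.ι ⟶ Y.left := c.left ≫ pullback.fst Y.hom U.ι
  have hm : m ≫ Y.hom = pullback.fst Z.hom U.ι ≫ Z.hom := by
    rw [Category.assoc, pullback.condition, pullback.condition, ← Category.assoc]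
    exact congrArg (· ≫ U.ι) (Over.w c)
  have : IsAffineHom (pullback.snd Y.hom Z.hom) :=
    isAffineHom_isStableUnderBaseChange.of_isPullback (IsPullback.of_hasPullback Y.hom Z.hom) inferInstance
  obtain ⟨σ, ⟨hσ, hσU⟩, -⟩ := CAlgOdd.HartogsTwo.existsUnique_section U₁ (reg2_of_flat Z.hom hU)
    (pullback.snd Y.hom Z.hom) (pullback.lift (l ≫ m) U₁.ι (by
      rw [Category.assoc, hm, pullback.lift_fst_assoc]))
    (pullback.lift_snd _ _ _)
  let h : Z ⟶ Y := Over.homMk (σ ≫ pullback.fst Y.hom Z.hom) (by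
    rw [Category.assoc, pullback.condition, ← Category.assoc, hσ, Category.id_comp])
  refine ⟨h, Over.OverMorphism.ext (pullback.hom_ext ?_ ?_)⟩
  · refine (pullback_map_fst h U).trans ?_
    show pullback.fst Z.hom U.ι ≫ σ ≫ pullback.fst Y.hom Z.hom = m
    rw [← hr, Category.assoc, reassoc_of% hσU, pullback.lift_fst, reassoc_of% hrl]
  · exact (pullback.lift_snd _ _ _).trans (Over.w c).symm

/-- A morphism is invertible if it is so over the open. -/
theorem isIso_of_pullback_map [Flat Z.hom] [IsAffineHom Z.hom] [Flat Y.hom] [IsAffineHom Y.hom]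
    [QuasiCompact U.ι] (hU : Depth2Outside U) (f : Z ⟶ Y) [IsIso ((Over.pullback U.ι).map f)] : IsIso f := by
  obtain ⟨g, hg⟩ := pullback_map_surjective hU (inv ((Over.pullback U.ι).map f))
  exact ⟨g, pullback_map_injective hU (by rw [Functor.map_comp, hg, IsIso.hom_inv_id, CategoryTheory.Functor.map_id]),
    pullback_map_injective hU (by rw [Functor.map_comp, hg, IsIso.inv_hom_id, CategoryTheory.Functor.map_id])⟩

end Groth.Agent.NonAbLib.UnipExt
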