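import Groth.Agent.SchTorsor.Basic
import Groth.Prelude.Def_ActBC
import Mathlib.AlgebraicGeometry.Restrict

/-!
# Torsors under a base-changed group as right torsors over the base field
-/

set_option autoImplicit false
set_option linter.style.haveILetI false

universe u

open CategoryTheory CategoryTheory.Limits MonoidalCategory CartesianMonoidalCategory MonObj GrpObj AlgebraicGeometry

noncomputable section

namespace Groth.Agent.NonAbLib.UnipExt

variable {B : Scheme.{u}}

/-- A `B`-scheme `P` over `S` with a right action of a `B`-group whose shear to `P ×_S P` is an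
isomorphism. -/
structure RightTorsor (G : Over B) [GrpObj G] (S : Scheme.{u}) (σ : S ⟶ B) where
  /-- the total space, over `B` -/
  P : Over B
  /-- the projection -/
  q : P.left ⟶ S
  hq : q ≫ σ = P.hom
  /-- the action -/
  r : P ⊗ G ⟶ P
  hr : r.left ≫ q = (fst P G).left ≫ q
  one : lift (𝟙 P) (toUnit P ≫ η[G]) ≫ r = 𝟙 P
  assoc : (r ▷ G) ≫ r = (α_ P G G).hom ≫ (P ◁ μ[G]) ≫ r
  isPullback : IsPullback (fst P G).left r.left q q

section OfAction

variable {G : Over B} [GrpObj G] {U : Scheme.{u}} {f : U ⟶ B} {X : Over U}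
  (a : AlgGrp.Action (Red.bc f G) X)

/-- The total space over the base. -/
abbrev totP (X : Over U) (f : U ⟶ B) : Over B := Over.mk (X.hom ≫ f)

/-- A point of the total space as a scheme over `U`. -/
abbrev ovU {T : Over B} (p : T ⟶ totP X f) : Over U := Over.mk (p.left ≫ X.hom)

/-- The comparison of the two structures over the base. -/
def downT {T : Over B} (p : T ⟶ totP X f) : (Over.map f).obj (ovU p) ⟶ T :=
  Over.homMk (𝟙 T.left) ((Category.id_comp _).trans ((Over.w p).symm.trans (Category.assoc _ _ _).symm))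

/-- The group point over `U`. -/
def upG {T : Over B} (p : T ⟶ totP X f) (g : T ⟶ G) : ovU p ⟶ Red.bc f G :=
  (Over.mapPullbackAdj f).homEquiv (ovU p) G (downT p ≫ g)

/-- The point of `X` over `U`. -/
def upX {T : Over B} (p : T ⟶ totP X f) : ovU p ⟶ X := Over.homMk p.left rfl

/-- The right action on points. -/
def ract' {T : Over B} (p : T ⟶ totP X f) (g : T ⟶ G) : T ⟶ totP X f :=
  Over.homMk (lift (upG p g⁻¹) (upX p) ≫ a.act).left (by
    show (lift (upG p g⁻¹) (upX p) ≫ a.act).left ≫ X.hom ≫ f = T.hom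
    rw [← Category.assoc, Over.w (lift (upG p g⁻¹) (upX p) ≫ a.act)]
    exact (Category.assoc _ _ _).trans (Over.w p))

theorem ract'_left_hom {T : Over B} (p : T ⟶ totP X f) (g : T ⟶ G) :
    (ract' a p g).left ≫ X.hom = p.left ≫ X.hom :=
  Over.w (lift (upG p g⁻¹) (upX p) ≫ a.act)

theorem comp_ract' {T T' : Over B} (u : T' ⟶ T) (p : T ⟶ totP X f) (g : T ⟶ G) :
    u ≫ ract' a p g = ract' a (u ≫ p) (u ≫ g) := by
  let c : ovU (u ≫ p) ⟶ ovU p := Over.homMk u.left (Category.assoc _ _ _).symm
  have h1 : c ≫ upX p = upX (u ≫ p) := Over.OverMorphism.ext rfl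
  have h2 : c ≫ upG p g⁻¹ = upG (u ≫ p) (u ≫ g)⁻¹ := by
    rw [upG, upG, ← Adjunction.homEquiv_naturality_left, ← GrpObj.comp_inv]
    congr 1
  refine Over.OverMorphism.ext ?_
  show u.left ≫ (lift (upG p g⁻¹) (upX p) ≫ a.act).left = (lift (upG (u ≫ p) (u ≫ g)⁻¹) (upX (u ≫ p)) ≫ a.act).left
  rw [← h1, ← h2, ← comp_lift, Category.assoc]
  rfl

theorem upG_one {T : Over B} (p : T ⟶ totP X f) : upG p (1 : T ⟶ G) = 1 := by
  have h := AlgGrp.Action.homEquiv_mul f (T' := ovU p) (1 : (Over.map f).obj (ovU p) ⟶ G) 1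
  rw [_root_.one_mul] at h
  rw [upG, MonObj.comp_one]
  exact left_eq_mul.1 h

theorem upG_mul {T : Over B} (p : T ⟶ totP X f) (g h : T ⟶ G) : upG p (g * h) = upG p g * upG p h := by
  rw [upG, upG, upG, MonObj.comp_mul, AlgGrp.Action.homEquiv_mul]

theorem ract'_one {T : Over B} (p : T ⟶ totP X f) : ract' a p 1 = p := by
  refine Over.OverMorphism.ext ?_
  show (lift (upG p (1 : T ⟶ G)⁻¹) (upX p) ≫ a.act).left = p.left
  rw [inv_one, upG_one, SchTorsor.one_act_pt]
  rfl

theorem ract'_ract' {T : Over B} (p : T ⟶ totP X f) (g h : T ⟶ G) :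
    ract' a (ract' a p g) h = ract' a p (g * h) := by
  let c : ovU p ⟶ ovU (ract' a p g) := Over.homMk (𝟙 T.left) ((Category.id_comp _).trans (ract'_left_hom a p g))
  have h1 : c ≫ upX (ract' a p g) = lift (upG p g⁻¹) (upX p) ≫ a.act := Over.OverMorphism.ext (Category.id_comp _)
  have h2 : c ≫ upG (ract' a p g) h⁻¹ = upG p h⁻¹ := by
    rw [upG, upG, ← Adjunction.homEquiv_naturality_left, ← Category.assoc]
    congr 2
  refine Over.OverMorphism.ext ?_
  show (lift (upG (ract' a p g) h⁻¹) (upX (ract' a p g)) ≫ a.act).left =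
    (lift (upG p (g * h)⁻¹) (upX p) ≫ a.act).left
  rw [_root_.mul_inv_rev, upG_mul, SchTorsor.act_assoc, ← h1, ← h2, ← comp_lift, Category.assoc]
  exact (Category.id_comp _).symm

theorem ract'_eq_iff (ha : NonAbH1.IsPseudoTorsorSch a) {T : Over B} (p p' : T ⟶ totP X f)
    (h : p'.left ≫ X.hom = p.left ≫ X.hom) : ∃! g : T ⟶ G, (ract' a p g).left = p'.left := by
  obtain ⟨y, hy⟩ := SchTorsor.exists_div ha (Over.homMk p'.left h : ovU p ⟶ X) (upX p)
  obtain ⟨g₁, hg₁⟩ := ((Over.mapPullbackAdj f).homEquiv (ovU p) G).surjective y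
  let up : T ⟶ (Over.map f).obj (ovU p) :=
    Over.homMk (𝟙 T.left) ((Category.id_comp _).trans ((Category.assoc _ _ _).trans (Over.w p)))
  have hud : downT p ≫ up = 𝟙 _ := Over.OverMorphism.ext (Category.id_comp _)
  have hup : up ≫ downT p = 𝟙 _ := Over.OverMorphism.ext (Category.id_comp _)
  refine ⟨(up ≫ g₁)⁻¹, ?_, fun g hg => ?_⟩
  · show (lift (upG p ((up ≫ g₁)⁻¹)⁻¹) (upX p) ≫ a.act).left = p'.left
    rw [_root_.inv_inv, upG, reassoc_of% hud, hg₁, hy]
    rfl
  · change (lift (upG p g⁻¹) (upX p) ≫ a.act).left = p'.left at hg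
    have e : lift (upG p g⁻¹) (upX p) ≫ a.act = lift y (upX p) ≫ a.act := by
      rw [hy]; exact Over.OverMorphism.ext hg
    have e2 := SchTorsor.act_free ha e
    rw [← hg₁, upG] at e2
    have e3 := ((Over.mapPullbackAdj f).homEquiv (ovU p) G).injective e2
    rw [← e3, reassoc_of% hup, _root_.inv_inv]

/-- The right torsor of a torsor, over any target `S` into which `U` is a monomorphism. -/
def RightTorsor.ofAction (ha : NonAbH1.IsPseudoTorsorSch a) {S : Scheme.{u}} (j : U ⟶ S) [Mono j]
    (σ : S ⟶ B) (hσ : j ≫ σ = f) : RightTorsor G S σ where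
  P := totP X f
  q := X.hom ≫ j
  hq := by rw [Category.assoc, hσ]; rfl
  r := ract' a (fst (totP X f) G) (snd (totP X f) G)
  hr := by rw [← Category.assoc, ract'_left_hom, Category.assoc]
  one := by rw [comp_ract', lift_fst, lift_snd, ← Hom.one_def, ract'_one]
  assoc := by
    simp only [comp_ract', whiskerRight_fst, whiskerRight_snd]
    rw [ract'_ract', Hom.mul_def]
    congr 1
    · simp
    · rw [whiskerLeft_snd]
      simp only [← Category.assoc]
      congr 1
      apply CartesianMonoidalCategory.hom_ext <;> simp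
  isPullback := by
    refine IsPullback.of_isLimit' ⟨(by rw [← Category.assoc, ← Category.assoc, ract'_left_hom])⟩ ?_
    have key : ∀ s : PullbackCone (X.hom ≫ j) (X.hom ≫ j), s.snd ≫ X.hom = s.fst ≫ X.hom := fun s => by
      rw [← cancel_mono j, Category.assoc, Category.assoc]
      exact s.condition.symm
    let T : ∀ s : PullbackCone (X.hom ≫ j) (X.hom ≫ j), Over B := fun s => Over.mk (s.fst ≫ X.hom ≫ f)
    let p : ∀ s, T s ⟶ totP X f := fun s => Over.homMk s.fst rfl
    let p' : ∀ s, T s ⟶ totP X f := fun s => Over.homMk s.snd (by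
      show s.snd ≫ X.hom ≫ f = s.fst ≫ X.hom ≫ f
      rw [← Category.assoc, key, Category.assoc])
    refine PullbackCone.IsLimit.mk _ (fun s => (lift (p s) (ract'_eq_iff a ha (p s) (p' s) (key s)).exists.choose).left)
      (fun s => ?_) (fun s => ?_) fun s m h1 h2 => ?_
    · rw [← Over.comp_left, lift_fst]
      rfl
    · rw [← Over.comp_left, comp_ract', lift_fst, lift_snd]
      exact (ract'_eq_iff a ha (p s) (p' s) (key s)).exists.choose_spec
    · have wm : m ≫ (totP X f ⊗ G).hom = (T s).hom := by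
        rw [← Over.w (fst (totP X f) G), ← Category.assoc, h1]
        rfl
      let mT : T s ⟶ totP X f ⊗ G := Over.homMk m wm
      have hm : mT = lift (p s) (mT ≫ snd _ _) := by
        apply CartesianMonoidalCategory.hom_ext
        · rw [lift_fst]; exact Over.OverMorphism.ext h1
        · rw [lift_snd]
      have hg : (ract' a (p s) (mT ≫ snd _ _)).left = (p' s).left := by
        rw [← show mT ≫ fst (totP X f) G = p s from Over.OverMorphism.ext h1, ← comp_ract']
        exact h2
      have hu := (ract'_eq_iff a ha (p s) (p' s) (key s)).unique hg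
        (ract'_eq_iff a ha (p s) (p' s) (key s)).exists.choose_spec
      show mT.left = _
      rw [hm, hu]

end OfAction

section Restrict

variable {G : Over B} [GrpObj G] {S : Scheme.{u}} {σ : S ⟶ B}

/-- The restriction to an open of the base. -/
def RightTorsor.restrict (R : RightTorsor G S σ) (V : S.Opens) : RightTorsor G V (V.ι ≫ σ) := by
  let W : R.P.left.Opens := R.q ⁻¹ᵁ V
  let P' : Over B := Over.mk (W.ι ≫ R.P.hom)
  let u : P' ⟶ R.P := Over.homMk W.ι rfl
  have hrange : Set.range ((u ▷ G) ≫ R.r).left ⊆ Set.range W.ι := by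
    rintro _ ⟨x, rfl⟩
    rw [Scheme.Opens.range_ι]
    show R.q (((u ▷ G) ≫ R.r).left x) ∈ V
    have h : ((u ▷ G) ≫ R.r).left ≫ R.q = (fst P' G).left ≫ W.ι ≫ R.q := by
      rw [Over.comp_left, Category.assoc, R.hr, ← Category.assoc, ← Over.comp_left, whiskerRight_fst,
        Over.comp_left, Category.assoc]
      rfl
    have hx := congrArg (fun φ => φ.base x) h
    simp only [Scheme.Hom.comp_base, TopCat.coe_comp, Function.comp_apply] at hx
    rw [← Scheme.Hom.comp_apply] at *
    exact hx ▸ ((fst P' G).left x).2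
  let r' : P' ⊗ G ⟶ P' := Over.homMk (IsOpenImmersion.lift W.ι ((u ▷ G) ≫ R.r).left hrange) (by
    show IsOpenImmersion.lift W.ι _ hrange ≫ W.ι ≫ R.P.hom = _
    rw [IsOpenImmersion.lift_fac_assoc]
    exact Over.w _)
  have hu : r' ≫ u = (u ▷ G) ≫ R.r := Over.OverMorphism.ext (IsOpenImmersion.lift_fac _ _ _)
  haveI : Mono u.left := inferInstanceAs (Mono W.ι)
  haveI hmono : Mono u := ⟨fun a b h => Over.OverMorphism.ext ((cancel_mono u.left).1 (congrArg CommaMorphism.left h))⟩
  have hmu : W.ι ≫ R.q = (R.q ∣_ V) ≫ V.ι := (morphismRestrict_ι R.q V).symm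
  refine
    { P := P'
      q := R.q ∣_ V
      hq := ?_
      r := r'
      hr := ?_
      one := ?_
      assoc := ?_
      isPullback := ?_ }
  · rw [← Category.assoc, ← hmu, Category.assoc, R.hq]
    rfl
  · rw [← cancel_mono V.ι, Category.assoc, Category.assoc, ← hmu, ← Category.assoc, ← Category.assoc]
    show (r' ≫ u).left ≫ R.q = ((fst P' G) ≫ u).left ≫ R.q
    rw [hu, Over.comp_left, Category.assoc, R.hr, ← Category.assoc, ← Over.comp_left, whiskerRight_fst]
  · rw [← cancel_mono u, Category.assoc, hu, Category.id_comp, lift_whiskerRight_assoc, Category.id_comp]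
    calc lift u (toUnit P' ≫ η[G]) ≫ R.r = u ≫ lift (𝟙 R.P) (toUnit R.P ≫ η[G]) ≫ R.r := by
          rw [comp_lift_assoc, Category.comp_id, ← Category.assoc u, comp_toUnit]
      _ = u := by rw [R.one, Category.comp_id]
  · rw [← cancel_mono u]
    simp only [Category.assoc, hu]
    rw [← comp_whiskerRight_assoc, hu, comp_whiskerRight_assoc, R.assoc, associator_naturality_left_assoc,
      ← whisker_exchange_assoc]
  · refine IsPullback.of_isLimit' ⟨?_⟩ ?_
    · rw [← cancel_mono V.ι, Category.assoc, Category.assoc, ← hmu, ← Category.assoc, ← Category.assoc]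
      show ((fst P' G) ≫ u).left ≫ R.q = (r' ≫ u).left ≫ R.q
      rw [hu, Over.comp_left (g := R.r), Category.assoc, R.hr, ← Category.assoc, ← Over.comp_left, whiskerRight_fst]
    have key : ∀ s : PullbackCone (R.q ∣_ V) (R.q ∣_ V), (s.fst ≫ W.ι) ≫ R.q = (s.snd ≫ W.ι) ≫ R.q := fun s => by
      rw [Category.assoc, Category.assoc, hmu, reassoc_of% s.condition]
    let m : ∀ s : PullbackCone (R.q ∣_ V) (R.q ∣_ V), s.pt ⟶ (R.P ⊗ G).left := fun s =>
      R.isPullback.lift (s.fst ≫ W.ι) (s.snd ≫ W.ι) (key s)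
    have hmw : ∀ s, m s ≫ (R.P ⊗ G).hom = s.fst ≫ P'.hom := fun s => by
      rw [← Over.w (fst R.P G), ← Category.assoc]
      exact (congrArg (· ≫ R.P.hom) (R.isPullback.lift_fst _ _ _)).trans (Category.assoc _ _ _)
    let T : ∀ _s : PullbackCone (R.q ∣_ V) (R.q ∣_ V), Over B := fun s => Over.mk (s.fst ≫ P'.hom)
    let l : ∀ s, T s ⟶ P' ⊗ G := fun s => lift (Over.homMk s.fst rfl)
      ((Over.homMk (m s) (hmw s) : T s ⟶ R.P ⊗ G) ≫ snd R.P G)
    have hl : ∀ s, l s ≫ (u ▷ G) = (Over.homMk (m s) (hmw s) : T s ⟶ R.P ⊗ G) := fun s => by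
      apply CartesianMonoidalCategory.hom_ext
      · rw [Category.assoc, whiskerRight_fst, lift_fst_assoc]
        exact Over.OverMorphism.ext (R.isPullback.lift_fst _ _ _).symm
      · simp [l]
    refine PullbackCone.IsLimit.mk _ (fun s => (l s).left) (fun s => ?_) (fun s => ?_) fun s t h1 h2 => ?_
    · rw [← Over.comp_left, lift_fst]
      rfl
    · rw [← cancel_mono W.ι, Category.assoc]
      show (l s).left ≫ (r' ≫ u).left = _
      rw [← Over.comp_left, hu, ← Category.assoc, hl, Over.comp_left]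
      exact R.isPullback.lift_snd _ _ _
    · have wt : t ≫ (P' ⊗ G).hom = (T s).hom := by
        rw [← Over.w (fst P' G), ← Category.assoc, h1]
        rfl
      let tT : T s ⟶ P' ⊗ G := Over.homMk t wt
      have ht : tT ≫ (u ▷ G) = (Over.homMk (m s) (hmw s) : T s ⟶ R.P ⊗ G) := by
        refine Over.OverMorphism.ext (R.isPullback.hom_ext ?_ ?_)
        · show (tT ≫ (u ▷ G)).left ≫ (fst R.P G).left = _
          rw [← Over.comp_left, Category.assoc, whiskerRight_fst, Over.comp_left, Over.comp_left]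
          refine Eq.trans ?_ (R.isPullback.lift_fst _ _ _).symm
          rw [← h1, Category.assoc]
          rfl
        · show (tT ≫ (u ▷ G)).left ≫ R.r.left = _
          rw [← Over.comp_left, Category.assoc, ← hu, Over.comp_left, Over.comp_left]
          refine Eq.trans ?_ (R.isPullback.lift_snd _ _ _).symm
          rw [← h2, Category.assoc]
          rfl
      have e1 : tT ≫ fst P' G = l s ≫ fst P' G := by
        rw [lift_fst]
        exact Over.OverMorphism.ext h1
      have e2 : tT ≫ snd P' G = l s ≫ snd P' G := by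
        have := congrArg (· ≫ snd R.P G) (ht.trans (hl s).symm)
        simpa using this
      exact congrArg CommaMorphism.left (CartesianMonoidalCategory.hom_ext tT (l s) e1 e2)

theorem RightTorsor.restrict_q (R : RightTorsor G S σ) (V : S.Opens) : (R.restrict V).q = R.q ∣_ V := rfl

/-- The inclusion of the restriction. -/
def RightTorsor.incl (R : RightTorsor G S σ) (V : S.Opens) : (R.restrict V).P ⟶ R.P :=
  Over.homMk (R.q ⁻¹ᵁ V).ι rfl

theorem RightTorsor.r_incl (R : RightTorsor G S σ) (V : S.Opens) :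
    (R.restrict V).r ≫ R.incl V = (R.incl V ▷ G) ≫ R.r :=
  haveI : IsOpenImmersion (R.q ⁻¹ᵁ V).ι := inferInstance
  Over.OverMorphism.ext (IsOpenImmersion.lift_fac (R.q ⁻¹ᵁ V).ι _ _)

end Restrict

end Groth.Agent.NonAbLib.UnipExt
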